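import Cfsg.Agent.Lib.OrthOmega.Siegel
import Cfsg.Agent.Lib.Forms.Reflections

/-!
# Siegel transformations over an arbitrary field

For a form with a hyperbolic pair `e, f` whose core represents every scalar, a subgroup containing the
Siegel transformations based at `e` and at `f` contains all of them, and the commutator subgroup of
the orthogonal group consists of products of Siegel transformations as soon as reflections generate.
Neither finiteness of the field nor non-degeneracy of the polar form is assumed.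
-/

set_option autoImplicit false

namespace Cfsg.Agent.Lib.ChevClassical

open Module QuadraticMap Cfsg.Agent.Lib.Forms Cfsg.Agent.Lib.OrthOmega
open scoped commutatorElement

variable {F : Type*} [Field F] {V : Type*} [AddCommGroup V] [Module F V]
variable {Q : QuadraticForm F V}

/-- `H` contains the Siegel transformations based at `e` and at `f`. -/
structure HasPair (H : Subgroup (orth Q)) (e f : V) : Prop where
  left : ∀ (u : V) (hu : SPair Q e u), rho hu ∈ H
  right : ∀ (u : V) (hu : SPair Q f u), rho hu ∈ H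

theorem HasPair.symm {H : Subgroup (orth Q)} {e f : V} (h : HasPair H e f) : HasPair H f e :=
  ⟨h.right, h.left⟩

/-- `x` is carried to `y` by an element of `H`. -/
def ConnIn (H : Subgroup (orth Q)) (x y : V) : Prop := ∃ g ∈ H, g.1 x = y

theorem ConnIn.trans {H : Subgroup (orth Q)} {x y z : V} (h : ConnIn H x y) (h' : ConnIn H y z) :
    ConnIn H x z := by
  obtain ⟨g, hg, rfl⟩ := h
  obtain ⟨k, hk, rfl⟩ := h'
  exact ⟨k * g, mul_mem hk hg, rfl⟩

theorem ConnIn.symm {H : Subgroup (orth Q)} {x y : V} (h : ConnIn H x y) : ConnIn H y x := by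
  obtain ⟨g, hg, rfl⟩ := h
  exact ⟨g⁻¹, inv_mem hg, orth_inv_apply_apply g x⟩

theorem connIn_drop {H : Subgroup (orth Q)} {e f : V} (hH : HasPair H e f) (hp : HypPair Q e f)
    {v : V} (hb : polar Q e v ≠ 0) :
    ConnIn H v ((Q v / polar Q e v) • e + polar Q e v • f) := by
  obtain ⟨w, hw⟩ : ∃ w, w = v - polar Q f v • e - polar Q e v • f := ⟨_, rfl⟩
  have hwc : w ∈ core Q e f := hw ▸ hp.proj_mem v
  set b := polar Q e v
  have hu : SPair Q e ((-b⁻¹) • w) :=
    ⟨hp.left, by rw [polar_smul_right, (mem_core.mp hwc).1, smul_zero]⟩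
  have hgv := rho_apply hu v
  have hbu : b • ((-b⁻¹) • w) = -w := by
    rw [smul_smul, mul_neg, mul_inv_cancel₀ hb, neg_one_smul]
  obtain ⟨A, hA⟩ : ∃ A : F, (rho hu).1 v = A • e + b • f := by
    refine ⟨polar Q f v - (polar Q ((-b⁻¹) • w) v + Q ((-b⁻¹) • w) * b), ?_⟩
    rw [hgv, hbu, sub_smul, hw]
    abel
  refine ⟨rho hu, hH.left _ hu, ?_⟩
  have hQv : A * b = Q v := by
    rw [← (rho hu).2 v, hA, Q_comb, hp.left, hp.right, hp.pol]; ring
  rw [hA, ← hQv, mul_div_assoc, div_self hb, mul_one]

/-- Every vector outside the radical is carried into the plane of the pair. -/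
theorem connIn_normal {H : Subgroup (orth Q)} {e f : V} (hH : HasPair H e f) (hp : HypPair Q e f)
    (univ : ∀ c : F, ∃ u ∈ core Q e f, Q u = c)
    {v : V} (hv : ∃ y, polar Q v y ≠ 0) {a' : F} (ha' : a' ≠ 0) :
    ConnIn H v (a' • e + (Q v / a') • f) := by
  have flip : ∀ {x : V}, polar Q f x ≠ 0 →
      ConnIn H x (polar Q f x • e + (Q x / polar Q f x) • f) := fun {x} hx => by
    rw [add_comm]; exact connIn_drop hH.symm hp.symm hx
  have main : ∀ {x : V}, polar Q e x ≠ 0 → ConnIn H x (a' • e + (Q x / a') • f) := by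
    intro x hb
    refine (connIn_drop hH hp hb).trans ?_
    set b := polar Q e x
    set α := Q x / b with hα
    obtain ⟨u, hu, hQu⟩ := univ ((α - a') / b)
    obtain ⟨hu1, hu2⟩ := mem_core.mp hu
    have hs : SPair Q e u := ⟨hp.left, hu1⟩
    have hgy := rho_apply hs (α • e + b • f)
    have hb1 : polar Q e (α • e + b • f) = b := by
      rw [polar_add_right, polar_smul_right, polar_smul_right, hp.pol_ee, hp.pol]; simp
    have hu3 : polar Q u (α • e + b • f) = 0 := by
      rw [polar_add_right, polar_smul_right, polar_smul_right, polar_comm Q u e, hu1,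
        polar_comm Q u f, hu2]
      simp
    rw [hb1, hu3, zero_add] at hgy
    have hfa : polar Q f ((rho hs).1 (α • e + b • f)) = a' := by
      rw [hgy]
      simp only [polar_sub_right, polar_add_right, polar_smul_right, hp.pol', hp.pol_ff, hu2,
        smul_eq_mul, hQu]
      field_simp
      ring
    have hQg : Q ((rho hs).1 (α • e + b • f)) = Q x := by
      rw [(rho hs).2, Q_comb, hp.left, hp.right, hp.pol, hα]
      field_simp
      ring
    refine ConnIn.trans ⟨rho hs, hH.left _ hs, rfl⟩ ?_
    have := flip (x := (rho hs).1 (α • e + b • f)) (by rw [hfa]; exact ha')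
    rwa [hfa, hQg] at this
  by_cases hb : polar Q e v ≠ 0
  · exact main hb
  push Not at hb
  have step : ∀ {x : V}, polar Q f x ≠ 0 → Q x = Q v → ConnIn H x (a' • e + (Q v / a') • f) := by
    intro x hx hQx
    have h1 := flip hx
    set a := polar Q f x
    by_cases hQ0 : Q x = 0
    · rw [hQ0, zero_div, zero_smul, add_zero] at h1
      obtain ⟨u, hu, hQu⟩ := univ 1
      obtain ⟨hu1, hu2⟩ := mem_core.mp hu
      have hs : SPair Q f u := ⟨hp.right, hu2⟩
      have hgy := rho_apply hs (a • e)
      have h2 : polar Q e ((rho hs).1 (a • e)) ≠ 0 := by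
        rw [hgy]
        simp only [polar_sub_right, polar_add_right, polar_smul_right, hp.pol_ee, hp.pol,
          polar_comm Q u e, hu1, hp.pol', smul_eq_mul, hQu]
        simpa using hx
      have h3 : Q ((rho hs).1 (a • e)) = Q v := by
        rw [(rho hs).2, Q_smul, hp.left, mul_zero, ← hQ0, hQx]
      exact (h1.trans ⟨rho hs, hH.right _ hs, rfl⟩).trans (h3 ▸ main h2)
    · refine h1.trans ?_
      have h2 : polar Q e (a • e + (Q x / a) • f) ≠ 0 := by
        rw [polar_add_right, polar_smul_right, polar_smul_right, hp.pol_ee, hp.pol]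
        simpa using div_ne_zero hQ0 hx
      have h3 := main h2
      have h4 : Q (a • e + (Q x / a) • f) = Q v := by
        rw [Q_comb, hp.left, hp.right, hp.pol, ← hQx]; field_simp; ring
      rwa [h4] at h3
  by_cases ha : polar Q f v ≠ 0
  · exact step ha rfl
  push Not at ha
  obtain ⟨y, hy⟩ := hv
  set z := y - polar Q f y • e - polar Q e y • f
  have hz := hp.proj_mem y
  have hvz : polar Q v z = polar Q v y := by
    simp only [z, polar_sub_right, polar_smul_right, polar_comm Q v e, polar_comm Q v f, hb, ha,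
      smul_zero, sub_zero]
  have hzv : polar Q ((polar Q v y)⁻¹ • z) v = 1 := by
    rw [polar_smul_left, polar_comm Q z v, hvz, smul_eq_mul, inv_mul_cancel₀ hy]
  have hu : SPair Q e ((polar Q v y)⁻¹ • z) :=
    ⟨hp.left, by rw [polar_smul_right, (mem_core.mp hz).1, smul_zero]⟩
  refine ConnIn.trans ⟨rho hu, hH.left _ hu, rfl⟩ (step ?_ ((rho hu).2 v))
  rw [rho_apply, hb, hzv]
  simp [polar_sub_right, ha, hp.pol']

/-- A subgroup with the Siegel transformations of one pair contains all of them. -/
theorem EG_le_of_hasPair {H : Subgroup (orth Q)} {e f : V} (hH : HasPair H e f)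
    (hp : HypPair Q e f) (univ : ∀ c : F, ∃ u ∈ core Q e f, Q u = c)
    (hrad : ∀ x, Q x = 0 → x ≠ 0 → ∃ y, polar Q x y ≠ 0) : EG Q ≤ H := by
  refine EG_le fun x u hu => ?_
  by_cases hx : x = 0
  · have h1 : rho hu = 1 := orth_ext fun z => by rw [rho_apply, hx]; simp
    rw [h1]; exact one_mem _
  obtain ⟨g, hg, hgx⟩ := connIn_normal hH hp univ (hrad x hu.sing hx) one_ne_zero
  rw [hu.sing, zero_div, zero_smul, add_zero, one_smul] at hgx
  have hu' : SPair Q e (g.1 u) := by
    have h := hu.map g
    rwa [hgx] at h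
  have h : g * rho hu * g⁻¹ ∈ H := by
    rw [rho_conj, rho_congr (hu.map g) hu' hgx rfl]
    exact hH.left _ hu'
  have := mul_mem (mul_mem (inv_mem hg) h) hg
  rwa [show g⁻¹ * (g * rho hu * g⁻¹) * g = rho hu by group] at this

/-- The commutator subgroup lies in `EG Q`. -/
theorem commutator_le_EG {e f : V} (hp : HypPair Q e f)
    (univ : ∀ c : F, ∃ u ∈ core Q e f, Q u = c)
    (hcl : Subgroup.closure (reflSet Q) = ⊤) : commutator (orth Q) ≤ EG Q := by
  have hH : HasPair (EG Q) e f := ⟨fun _ hu => rho_mem hu, fun _ hu => rho_mem hu⟩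
  have := EG_normal Q
  let π := QuotientGroup.mk' (EG Q)
  have h1 : ∀ (k : orth Q) (b : V), k * orefl Q b * k⁻¹ = orefl Q (k.1 b) := fun k b =>
    Subtype.ext (refl_conj k.2 b)
  have hrefl : ∀ a b : V, π (orefl Q a) * π (orefl Q b) = π (orefl Q b) * π (orefl Q a) := by
    intro a b
    by_cases hb : ∃ y, polar Q b y ≠ 0
    · have hb' : ∃ y, polar Q ((orefl Q a).1 b) y ≠ 0 := by
        obtain ⟨y, hy⟩ := hb
        exact ⟨(orefl Q a).1 y, by rwa [orth_polar (orefl Q a).2]⟩
      have h0 := connIn_normal hH hp univ hb' one_ne_zero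
      rw [(orefl Q a).2 b] at h0
      obtain ⟨g, hg, hgb⟩ := (connIn_normal hH hp univ hb one_ne_zero).trans h0.symm
      have h2 : π (orefl Q a * orefl Q b * (orefl Q a)⁻¹) = π (g * orefl Q b * g⁻¹) := by
        rw [h1, h1, hgb]
      rw [map_mul π (g * _), map_mul π g, map_inv π g,
        show π g = 1 from (QuotientGroup.eq_one_iff g).mpr hg, one_mul, inv_one, mul_one,
        map_mul, map_mul, map_inv, mul_inv_eq_iff_eq_mul] at h2
      exact h2
    · push Not at hb
      have h2 : orefl Q b = 1 := orth_ext fun x => by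
        show refl Q b x = x
        rw [refl_apply, hb x]
        simp
      simp [h2]
  rw [commutator_def, Subgroup.commutator_le]
  intro x hx y hy
  clear hx hy
  rw [← QuotientGroup.eq_one_iff (N := EG Q)]
  show π ⁅x, y⁆ = 1
  rw [map_commutatorElement, commutatorElement_eq_one_iff_mul_comm]
  have hgen : ∀ z : orth Q, z ∈ Subgroup.closure (reflSet Q) := fun z => hcl ▸ Subgroup.mem_top z
  induction hgen x using Subgroup.closure_induction with
  | mem a ha =>
    obtain ⟨a, -, rfl⟩ := ha
    induction hgen y using Subgroup.closure_induction with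
    | mem b hb => obtain ⟨b, -, rfl⟩ := hb; exact hrefl a b
    | one => simp
    | mul p r _ _ hp hr => rw [map_mul]; exact Commute.mul_right hp hr
    | inv p _ hp => rw [map_inv]; exact Commute.inv_right hp
  | one => simp
  | mul p r _ _ hp hr => rw [map_mul]; exact Commute.mul_left hp hr
  | inv p _ hp => rw [map_inv]; exact Commute.inv_left hp

end Cfsg.Agent.Lib.ChevClassical
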