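import Cfsg.Agent.Lib.ChevClassical.Roots

/-!
# Root elements as commutators
-/

set_option autoImplicit false

namespace Cfsg.Agent.Lib.ChevClassical

open Matrix Cfsg.Lie Cfsg.Agent.Lib.ChevStructure
open scoped commutatorElement

variable {ι : Type} [Fintype ι] [DecidableEq ι] {D : ChevalleyDatum} {C : Cert ι D.Idx}

/-- The integral identities making `σ • N u` a commutator of the elements of `a` and `b`. -/
def Step (Y : RootData C) (u a b : Rt D) (σ : ℤ) : Prop :=
  (∀ r ∈ [u, a, b], ∀ x y : ι, Y.N r 0 x y - (if x = y then 1 else 0) = 0 ∧ Y.N r 2 x y + 0 = 0) ∧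
  σ * σ = 1 ∧ (∀ x y, ∑ z, Y.N a 1 x z * Y.N a 1 z y = 0) ∧
  (∀ x y, ∑ z, Y.N b 1 x z * Y.N b 1 z y = 0) ∧
  (∀ x y, ∑ z, ∑ w, Y.N b 1 x z * Y.N a 1 z w * Y.N b 1 w y = 0) ∧
  (∀ x y, ∑ z, ∑ w, Y.N a 1 x z * Y.N b 1 z w * Y.N a 1 w y = 0) ∧
  (∀ x y, ∑ z, (Y.N a 1 x z * Y.N b 1 z y - Y.N b 1 x z * Y.N a 1 z y) - σ * Y.N u 1 x y = 0)

instance decidableStep (Y : RootData C) (u a b : Rt D) (σ : ℤ) : Decidable (Step Y u a b σ) := by
  unfold Step; infer_instance

variable {Y : RootData C} {F : Type*} [Field F] {f : (ι → F) → F}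
  {u a b : Rt D} {σ : ℤ}

theorem elt_eq_commutator (hf : ∀ v, f v = qval (C.Um F) v) (h : Step Y u a b σ) (t : F) :
    Y.elt hf u t = ⁅Y.elt hf a ((σ : F) * t), Y.elt hf b 1⁆ := by
  obtain ⟨h0, hσ, ha, hb, hbab, haba, hc⟩ := h
  set M : Rt D → Matrix ι ι F := fun r => (Y.N r 1).map (Int.castRingHom F) with hM
  have hmat : ∀ r ∈ [u, a, b], ∀ s : F, Y.mat F r s = 1 + s • M r := by
    intro r hr s
    ext x y
    have e0 : Y.N r 0 x y = if x = y then 1 else 0 := sub_eq_zero.mp (h0 r hr x y).1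
    have e2 : Y.N r 2 x y = 0 := by simpa using (h0 r hr x y).2
    simp [RootData.mat, hM, Finset.sum_range_succ, e0, e2, Matrix.one_apply]
  have cast0 : ∀ Z : Matrix ι ι ℤ, (∀ x y, Z x y = 0) → Z.map (Int.castRingHom F) = 0 :=
    fun Z hZ => by ext x y; simp [hZ x y]
  have za : M a * M a = 0 := by
    rw [hM, ← Matrix.map_mul]
    exact cast0 _ fun x y => by rw [Matrix.mul_apply]; exact ha x y
  have zb : M b * M b = 0 := by
    rw [hM, ← Matrix.map_mul]
    exact cast0 _ fun x y => by rw [Matrix.mul_apply]; exact hb x y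
  have zbab : M b * M a * M b = 0 := by
    rw [hM, ← Matrix.map_mul, ← Matrix.map_mul]
    refine cast0 _ fun x y => ?_
    simp only [Matrix.mul_apply, Finset.sum_mul]
    rw [Finset.sum_comm]
    exact hbab x y
  have zaba : M a * M b * M a = 0 := by
    rw [hM, ← Matrix.map_mul, ← Matrix.map_mul]
    refine cast0 _ fun x y => ?_
    simp only [Matrix.mul_apply, Finset.sum_mul]
    rw [Finset.sum_comm]
    exact haba x y
  have zc : M a * M b - M b * M a = (σ : F) • M u := by
    rw [hM, ← Matrix.map_mul, ← Matrix.map_mul]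
    ext x y
    have h := congrArg (Int.cast : ℤ → F) (hc x y)
    rw [Finset.sum_sub_distrib] at h
    push_cast at h
    simp only [Matrix.sub_apply, Matrix.map_apply, Matrix.mul_apply, Matrix.smul_apply, smul_eq_mul,
      eq_intCast, Int.cast_sum, Int.cast_mul]
    linear_combination h
  have hσ' : (σ : F) * (σ : F) = 1 := by rw [← Int.cast_mul, hσ, Int.cast_one]
  refine Subtype.ext (Units.ext ?_)
  show Y.mat F u t = Y.mat F a ((σ : F) * t) * Y.mat F b 1 * Y.mat F a (-((σ : F) * t)) * Y.mat F b (-1)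
  rw [hmat u (by simp), hmat a (by simp), hmat a (by simp), hmat b (by simp), hmat b (by simp)]
  generalize hs : (σ : F) * t = s
  have e : (1 + s • M a) * (1 + (1 : F) • M b) * (1 + (-s) • M a) * (1 + (-1 : F) • M b) =
      1 + s • (M a * M b - M b * M a) - (M b * M b) - s ^ 2 • (M a * M a)
        + s • (M b * M a * M b) + s ^ 2 • (M a * M a * M b) - s • (M a * (M b * M b))
        - s ^ 2 • (M a * M b * M a) + s ^ 2 • (M a * M b * M a * M b) := by
    simp only [one_smul, add_mul, mul_add, one_mul, mul_one, smul_mul_assoc, mul_smul_comm,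
      smul_smul, mul_assoc]
    match_scalars <;> ring
  rw [e, za, zb, zbab, zaba, zc, ← hs]
  simp only [smul_zero, Matrix.zero_mul, Matrix.mul_zero, sub_zero, add_zero, smul_smul]
  rw [show (σ : F) * t * σ = t by linear_combination t * hσ']

theorem step (hf : ∀ v, f v = qval (C.Um F) v) (h : Step Y u a b σ)
    (ha : ∀ t, Y.elt hf a t ∈ Y.gen hf) (hb : ∀ t, Y.elt hf b t ∈ Y.gen hf) :
    ∀ t, Y.elt hf u t ∈ Y.gen hf := fun t => by
  rw [elt_eq_commutator hf h t, commutatorElement_def]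
  exact mul_mem (mul_mem (mul_mem (ha _) (hb _)) (inv_mem (ha _))) (inv_mem (hb _))

theorem step_commutator (hf : ∀ v, f v = qval (C.Um F) v) (h : Step Y u a b σ) (t : F) :
    Y.elt hf u t ∈ Cfsg.Omega F f := by
  rw [elt_eq_commutator hf h t]
  exact Subgroup.commutator_mem_commutator (Subgroup.mem_top _) (Subgroup.mem_top _)

end Cfsg.Agent.Lib.ChevClassical
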