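import Cfsg.Agent.Lib.ChevClassical.D4Roots
import Cfsg.Agent.Lib.ChevClassical.Steps
import Cfsg.Agent.Lib.ChevClassical.Siegel
import Cfsg.Agent.Lib.ChevAut.Simple
import Cfsg.Agent.Lib.OrthStd.Models
import Cfsg.Agent.Lib.Forms.Bridge

/-!
# The Chevalley group of type D4 is PΩ⁺ in dimension eight
-/

set_option autoImplicit false
set_option maxRecDepth 100000

namespace Cfsg.Agent.Lib.ChevClassical.D4

open Cfsg.Lie Cfsg.Agent.Lib Cfsg.Agent.Lib.Forms Cfsg.Agent.Lib.OrthOmega QuadraticMap
open scoped Matrix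

variable {F : Type*} [Field F]

theorem rk_eq (a b : I) : (bif rk a == rk b then (1 : ℤ) else 0) = if a = b then 1 else 0 := by
  revert a b; decide +kernel

/-- The partner of an index. -/
def dual : I → I
  | .inl i => .inr i
  | .inr i => .inl i

theorem hf (v : I → F) : Cfsg.quadFormPlus 4 F v = qval (cert.Um F) v := by
  simp [Cfsg.quadFormPlus, qval, cert, Cert.Um, U, Matrix.mulVec, dotProduct, Fintype.sum_sum_type,
    Fin.sum_univ_four]

theorem elt_mem_gen (r : ChevStructure.Rt chevD4) (t : F) :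
    roots.elt hf r t ∈ roots.gen hf := by
  have h18 : ∀ t : F, roots.elt hf (⟨18, by decide⟩ : ChevStructure.Rt chevD4) t ∈ roots.gen hf :=
    fun t => roots.elt_mem_gen hf (by decide +kernel) t
  have h14 : ∀ t : F, roots.elt hf (⟨14, by decide⟩ : ChevStructure.Rt chevD4) t ∈ roots.gen hf :=
    fun t => roots.elt_mem_gen hf (by decide +kernel) t
  have h13 : ∀ t : F, roots.elt hf (⟨13, by decide⟩ : ChevStructure.Rt chevD4) t ∈ roots.gen hf :=
    fun t => roots.elt_mem_gen hf (by decide +kernel) t
  have h12 : ∀ t : F, roots.elt hf (⟨12, by decide⟩ : ChevStructure.Rt chevD4) t ∈ roots.gen hf :=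
    fun t => roots.elt_mem_gen hf (by decide +kernel) t
  have h5 : ∀ t : F, roots.elt hf (⟨5, by decide⟩ : ChevStructure.Rt chevD4) t ∈ roots.gen hf :=
    fun t => roots.elt_mem_gen hf (by decide +kernel) t
  have h9 : ∀ t : F, roots.elt hf (⟨9, by decide⟩ : ChevStructure.Rt chevD4) t ∈ roots.gen hf :=
    fun t => roots.elt_mem_gen hf (by decide +kernel) t
  have h10 : ∀ t : F, roots.elt hf (⟨10, by decide⟩ : ChevStructure.Rt chevD4) t ∈ roots.gen hf :=
    fun t => roots.elt_mem_gen hf (by decide +kernel) t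
  have h11 : ∀ t : F, roots.elt hf (⟨11, by decide⟩ : ChevStructure.Rt chevD4) t ∈ roots.gen hf :=
    fun t => roots.elt_mem_gen hf (by decide +kernel) t
  have h4 := step (Y := roots) (u := (⟨4, by decide⟩ : ChevStructure.Rt chevD4)) (a := (⟨5, by decide⟩ : ChevStructure.Rt chevD4)) (b := (⟨9, by decide⟩ : ChevStructure.Rt chevD4)) (σ := 1) hf (by decide +kernel) h5 h9
  have h7 := step (Y := roots) (u := (⟨7, by decide⟩ : ChevStructure.Rt chevD4)) (a := (⟨9, by decide⟩ : ChevStructure.Rt chevD4)) (b := (⟨10, by decide⟩ : ChevStructure.Rt chevD4)) (σ := 1) hf (by decide +kernel) h9 h10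
  have h8 := step (Y := roots) (u := (⟨8, by decide⟩ : ChevStructure.Rt chevD4)) (a := (⟨9, by decide⟩ : ChevStructure.Rt chevD4)) (b := (⟨11, by decide⟩ : ChevStructure.Rt chevD4)) (σ := 1) hf (by decide +kernel) h9 h11
  have h15 := step (Y := roots) (u := (⟨15, by decide⟩ : ChevStructure.Rt chevD4)) (a := (⟨12, by decide⟩ : ChevStructure.Rt chevD4)) (b := (⟨14, by decide⟩ : ChevStructure.Rt chevD4)) (σ := 1) hf (by decide +kernel) h12 h14
  have h16 := step (Y := roots) (u := (⟨16, by decide⟩ : ChevStructure.Rt chevD4)) (a := (⟨13, by decide⟩ : ChevStructure.Rt chevD4)) (b := (⟨14, by decide⟩ : ChevStructure.Rt chevD4)) (σ := 1) hf (by decide +kernel) h13 h14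
  have h17 := step (Y := roots) (u := (⟨17, by decide⟩ : ChevStructure.Rt chevD4)) (a := (⟨15, by decide⟩ : ChevStructure.Rt chevD4)) (b := (⟨13, by decide⟩ : ChevStructure.Rt chevD4)) (σ := -1) hf (by decide +kernel) h15 h13
  have h19 := step (Y := roots) (u := (⟨19, by decide⟩ : ChevStructure.Rt chevD4)) (a := (⟨14, by decide⟩ : ChevStructure.Rt chevD4)) (b := (⟨18, by decide⟩ : ChevStructure.Rt chevD4)) (σ := 1) hf (by decide +kernel) h14 h18
  have h20 := step (Y := roots) (u := (⟨20, by decide⟩ : ChevStructure.Rt chevD4)) (a := (⟨15, by decide⟩ : ChevStructure.Rt chevD4)) (b := (⟨18, by decide⟩ : ChevStructure.Rt chevD4)) (σ := 1) hf (by decide +kernel) h15 h18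
  have h21 := step (Y := roots) (u := (⟨21, by decide⟩ : ChevStructure.Rt chevD4)) (a := (⟨16, by decide⟩ : ChevStructure.Rt chevD4)) (b := (⟨18, by decide⟩ : ChevStructure.Rt chevD4)) (σ := 1) hf (by decide +kernel) h16 h18
  have h22 := step (Y := roots) (u := (⟨22, by decide⟩ : ChevStructure.Rt chevD4)) (a := (⟨17, by decide⟩ : ChevStructure.Rt chevD4)) (b := (⟨18, by decide⟩ : ChevStructure.Rt chevD4)) (σ := 1) hf (by decide +kernel) h17 h18
  have h23 := step (Y := roots) (u := (⟨23, by decide⟩ : ChevStructure.Rt chevD4)) (a := (⟨22, by decide⟩ : ChevStructure.Rt chevD4)) (b := (⟨14, by decide⟩ : ChevStructure.Rt chevD4)) (σ := -1) hf (by decide +kernel) h22 h14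
  have h2 := step (Y := roots) (u := (⟨2, by decide⟩ : ChevStructure.Rt chevD4)) (a := (⟨4, by decide⟩ : ChevStructure.Rt chevD4)) (b := (⟨10, by decide⟩ : ChevStructure.Rt chevD4)) (σ := 1) hf (by decide +kernel) h4 h10
  have h3 := step (Y := roots) (u := (⟨3, by decide⟩ : ChevStructure.Rt chevD4)) (a := (⟨4, by decide⟩ : ChevStructure.Rt chevD4)) (b := (⟨11, by decide⟩ : ChevStructure.Rt chevD4)) (σ := 1) hf (by decide +kernel) h4 h11
  have h6 := step (Y := roots) (u := (⟨6, by decide⟩ : ChevStructure.Rt chevD4)) (a := (⟨7, by decide⟩ : ChevStructure.Rt chevD4)) (b := (⟨11, by decide⟩ : ChevStructure.Rt chevD4)) (σ := 1) hf (by decide +kernel) h7 h11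
  have h1 := step (Y := roots) (u := (⟨1, by decide⟩ : ChevStructure.Rt chevD4)) (a := (⟨2, by decide⟩ : ChevStructure.Rt chevD4)) (b := (⟨11, by decide⟩ : ChevStructure.Rt chevD4)) (σ := 1) hf (by decide +kernel) h2 h11
  have h0 := step (Y := roots) (u := (⟨0, by decide⟩ : ChevStructure.Rt chevD4)) (a := (⟨1, by decide⟩ : ChevStructure.Rt chevD4)) (b := (⟨9, by decide⟩ : ChevStructure.Rt chevD4)) (σ := 1) hf (by decide +kernel) h1 h9
  fin_cases r
  · exact h0 t
  · exact h1 t
  · exact h2 t
  · exact h3 t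
  · exact h4 t
  · exact h5 t
  · exact h6 t
  · exact h7 t
  · exact h8 t
  · exact h9 t
  · exact h10 t
  · exact h11 t
  · exact h12 t
  · exact h13 t
  · exact h14 t
  · exact h15 t
  · exact h16 t
  · exact h17 t
  · exact h18 t
  · exact h19 t
  · exact h20 t
  · exact h21 t
  · exact h22 t
  · exact h23 t

theorem elt_mem_omega (r : ChevStructure.Rt chevD4) (t : F) :
    roots.elt hf r t ∈ Cfsg.Omega F (Cfsg.quadFormPlus 4 F) := by
  fin_cases r
  · exact step_commutator (Y := roots) (a := (⟨1, by decide⟩ : ChevStructure.Rt chevD4)) (b := (⟨9, by decide⟩ : ChevStructure.Rt chevD4)) (σ := 1) hf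
      (by decide +kernel) t
  · exact step_commutator (Y := roots) (a := (⟨2, by decide⟩ : ChevStructure.Rt chevD4)) (b := (⟨11, by decide⟩ : ChevStructure.Rt chevD4)) (σ := 1) hf
      (by decide +kernel) t
  · exact step_commutator (Y := roots) (a := (⟨4, by decide⟩ : ChevStructure.Rt chevD4)) (b := (⟨10, by decide⟩ : ChevStructure.Rt chevD4)) (σ := 1) hf
      (by decide +kernel) t
  · exact step_commutator (Y := roots) (a := (⟨4, by decide⟩ : ChevStructure.Rt chevD4)) (b := (⟨11, by decide⟩ : ChevStructure.Rt chevD4)) (σ := 1) hf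
      (by decide +kernel) t
  · exact step_commutator (Y := roots) (a := (⟨5, by decide⟩ : ChevStructure.Rt chevD4)) (b := (⟨9, by decide⟩ : ChevStructure.Rt chevD4)) (σ := 1) hf
      (by decide +kernel) t
  · exact step_commutator (Y := roots) (a := (⟨1, by decide⟩ : ChevStructure.Rt chevD4)) (b := (⟨17, by decide⟩ : ChevStructure.Rt chevD4)) (σ := 1) hf
      (by decide +kernel) t
  · exact step_commutator (Y := roots) (a := (⟨7, by decide⟩ : ChevStructure.Rt chevD4)) (b := (⟨11, by decide⟩ : ChevStructure.Rt chevD4)) (σ := 1) hf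
      (by decide +kernel) t
  · exact step_commutator (Y := roots) (a := (⟨9, by decide⟩ : ChevStructure.Rt chevD4)) (b := (⟨10, by decide⟩ : ChevStructure.Rt chevD4)) (σ := 1) hf
      (by decide +kernel) t
  · exact step_commutator (Y := roots) (a := (⟨9, by decide⟩ : ChevStructure.Rt chevD4)) (b := (⟨11, by decide⟩ : ChevStructure.Rt chevD4)) (σ := 1) hf
      (by decide +kernel) t
  · exact step_commutator (Y := roots) (a := (⟨0, by decide⟩ : ChevStructure.Rt chevD4)) (b := (⟨22, by decide⟩ : ChevStructure.Rt chevD4)) (σ := -1) hf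
      (by decide +kernel) t
  · exact step_commutator (Y := roots) (a := (⟨1, by decide⟩ : ChevStructure.Rt chevD4)) (b := (⟨20, by decide⟩ : ChevStructure.Rt chevD4)) (σ := -1) hf
      (by decide +kernel) t
  · exact step_commutator (Y := roots) (a := (⟨1, by decide⟩ : ChevStructure.Rt chevD4)) (b := (⟨21, by decide⟩ : ChevStructure.Rt chevD4)) (σ := -1) hf
      (by decide +kernel) t
  · exact step_commutator (Y := roots) (a := (⟨2, by decide⟩ : ChevStructure.Rt chevD4)) (b := (⟨22, by decide⟩ : ChevStructure.Rt chevD4)) (σ := -1) hf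
      (by decide +kernel) t
  · exact step_commutator (Y := roots) (a := (⟨3, by decide⟩ : ChevStructure.Rt chevD4)) (b := (⟨22, by decide⟩ : ChevStructure.Rt chevD4)) (σ := -1) hf
      (by decide +kernel) t
  · exact step_commutator (Y := roots) (a := (⟨1, by decide⟩ : ChevStructure.Rt chevD4)) (b := (⟨23, by decide⟩ : ChevStructure.Rt chevD4)) (σ := -1) hf
      (by decide +kernel) t
  · exact step_commutator (Y := roots) (a := (⟨12, by decide⟩ : ChevStructure.Rt chevD4)) (b := (⟨14, by decide⟩ : ChevStructure.Rt chevD4)) (σ := 1) hf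
      (by decide +kernel) t
  · exact step_commutator (Y := roots) (a := (⟨13, by decide⟩ : ChevStructure.Rt chevD4)) (b := (⟨14, by decide⟩ : ChevStructure.Rt chevD4)) (σ := 1) hf
      (by decide +kernel) t
  · exact step_commutator (Y := roots) (a := (⟨15, by decide⟩ : ChevStructure.Rt chevD4)) (b := (⟨13, by decide⟩ : ChevStructure.Rt chevD4)) (σ := -1) hf
      (by decide +kernel) t
  · exact step_commutator (Y := roots) (a := (⟨6, by decide⟩ : ChevStructure.Rt chevD4)) (b := (⟨22, by decide⟩ : ChevStructure.Rt chevD4)) (σ := 1) hf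
      (by decide +kernel) t
  · exact step_commutator (Y := roots) (a := (⟨14, by decide⟩ : ChevStructure.Rt chevD4)) (b := (⟨18, by decide⟩ : ChevStructure.Rt chevD4)) (σ := 1) hf
      (by decide +kernel) t
  · exact step_commutator (Y := roots) (a := (⟨15, by decide⟩ : ChevStructure.Rt chevD4)) (b := (⟨18, by decide⟩ : ChevStructure.Rt chevD4)) (σ := 1) hf
      (by decide +kernel) t
  · exact step_commutator (Y := roots) (a := (⟨16, by decide⟩ : ChevStructure.Rt chevD4)) (b := (⟨18, by decide⟩ : ChevStructure.Rt chevD4)) (σ := 1) hf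
      (by decide +kernel) t
  · exact step_commutator (Y := roots) (a := (⟨17, by decide⟩ : ChevStructure.Rt chevD4)) (b := (⟨18, by decide⟩ : ChevStructure.Rt chevD4)) (σ := 1) hf
      (by decide +kernel) t
  · exact step_commutator (Y := roots) (a := (⟨22, by decide⟩ : ChevStructure.Rt chevD4)) (b := (⟨14, by decide⟩ : ChevStructure.Rt chevD4)) (σ := -1) hf
      (by decide +kernel) t

/-- A root element moves like a Siegel transformation. -/
theorem siegel_cert : ∀ e ∈ [(Sum.inl 0 : I), Sum.inr 0], ∀ j : I, j ≠ e → j ≠ dual e →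
    ∃ r : ChevStructure.Rt chevD4,
      (∀ a b, N r 1 a b - ((if a = j ∧ b = dual e then (1 : ℤ) else 0) -
        (if a = e ∧ b = dual j then 1 else 0)) = 0) ∨
      (∀ a b, N r 1 a b - ((if a = e ∧ b = dual j then (1 : ℤ) else 0) -
        (if a = j ∧ b = dual e then 1 else 0)) = 0) := by decide +kernel

theorem polar_single (k : I) (c : F) (x : I → F) :
    polar (qPlus (F := F) 4) (Pi.single k c) x = c * x (dual k) := by
  rcases k with k | k <;> fin_cases k <;>
    simp [polar, qPlus_apply, dual, Fin.sum_univ_four, Pi.single_apply] <;> ring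

theorem q_single (k : I) (c : F) : qPlus (F := F) 4 (Pi.single k c) = 0 := by
  rcases k with k | k <;> fin_cases k <;> simp [qPlus_apply, Fin.sum_univ_four, Pi.single_apply]

theorem rho_single_mem {e : I} (he : e ∈ [(Sum.inl 0 : I), Sum.inr 0]) {j : I} (hjd : j ≠ dual e)
    {c : F} (hu : SPair (qPlus (F := F) 4) (Pi.single e 1) (Pi.single j c)) :
    rho hu ∈ (roots.gen hf).map (isoOrth (qPlus (F := F) 4)
      (OrthStd.quadFormPlus_eq 4)).toMonoidHom := by
  by_cases hje : j = e
  · subst hje
    have h1 : rho hu = 1 := orth_ext fun x => by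
      rw [rho_apply, polar_single, polar_single, q_single]
      funext y
      rcases eq_or_ne y j with rfl | h <;> simp [*] <;> ring
    rw [h1]; exact one_mem _
  obtain ⟨r, h⟩ := siegel_cert e he j hje hjd
  obtain ⟨s, hs⟩ : ∃ s : F, ∀ a b, s * (N r 1 a b : F) =
      (if a = j ∧ b = dual e then c else 0) - (if a = e ∧ b = dual j then c else 0) := by
    rcases h with h | h
    · exact ⟨c, fun a b => by rw [sub_eq_zero.mp (h a b)]; split_ifs <;> simp⟩
    · exact ⟨-c, fun a b => by rw [sub_eq_zero.mp (h a b)]; split_ifs <;> simp⟩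
  refine ⟨roots.elt hf r s, elt_mem_gen r s, orth_ext fun x => ?_⟩
  rw [rho_apply, MulEquiv.coe_toMonoidHom, isoOrth_apply, polar_single, polar_single, q_single]
  funext y
  have hm : ∀ b, (roots.mat F r s) y b = (if y = b then 1 else 0) +
      ((if y = j ∧ b = dual e then c else 0) - (if y = e ∧ b = dual j then c else 0)) := fun b => by
    rw [← hs]
    simp [RootData.mat, Matrix.of_apply, Finset.sum_range_succ, roots, N, rk_eq]
  show ∑ b, roots.mat F r s y b * x b = _
  simp only [hm, add_mul, sub_mul, Finset.sum_add_distrib, Finset.sum_sub_distrib, ite_mul,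
    one_mul, zero_mul, ite_and, Finset.sum_ite_eq, Finset.sum_ite_eq', Finset.mem_univ, if_true]
  rcases eq_or_ne y j with rfl | h1
  · simp [Pi.single_apply, hje, Finset.sum_ite_eq']
    ring
  · rcases eq_or_ne y e with rfl | h2 <;>
      simp [*, Pi.single_apply, Finset.sum_ite_eq'] <;> ring

theorem rho_mem_gen {e : I} (he : e ∈ [(Sum.inl 0 : I), Sum.inr 0]) (u : I → F)
    (hu : SPair (qPlus (F := F) 4) (Pi.single e 1) u) :
    rho hu ∈ (roots.gen hf).map (isoOrth (qPlus (F := F) 4)
      (OrthStd.quadFormPlus_eq 4)).toMonoidHom := by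
  have hu0 : u (dual e) = 0 := by
    have h := hu.perp
    rwa [polar_single, one_mul] at h
  have key : ∀ s : Finset I, ∃ h : SPair (qPlus (F := F) 4) (Pi.single e 1)
      (∑ j ∈ s, Pi.single j (u j)), rho h ∈ (roots.gen hf).map (isoOrth (qPlus (F := F) 4)
        (OrthStd.quadFormPlus_eq 4)).toMonoidHom := by
    intro s
    induction s using Finset.induction_on with
    | empty =>
      have h0 : (∑ j ∈ (∅ : Finset I), (Pi.single j (u j) : I → F)) = 0 := Finset.sum_empty
      refine ⟨⟨q_single e 1, by rw [h0, polar_zero_right]⟩, ?_⟩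
      rw [rho_congr _ (SPair.zero (q_single e 1)) rfl h0, rho_zero]
      exact one_mem _
    | insert j s hj ih =>
      obtain ⟨h, hmem⟩ := ih
      have hju : SPair (qPlus (F := F) 4) (Pi.single e 1) (Pi.single j (u j)) := ⟨q_single e 1, by
        rw [polar_single, one_mul, Pi.single_apply]
        split_ifs with hd
        · rw [← hd]; exact hu0
        · rfl⟩
      have h1 : rho hju ∈ (roots.gen hf).map (isoOrth (qPlus (F := F) 4)
          (OrthStd.quadFormPlus_eq 4)).toMonoidHom := by
        by_cases hd : j = dual e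
        · have h0 : (Pi.single j (u j) : I → F) = 0 := by rw [hd, hu0, Pi.single_zero]
          rw [rho_congr hju (SPair.zero (q_single e 1)) rfl h0, rho_zero]
          exact one_mem _
        · exact rho_single_mem he hd hju
      have h2 : (∑ i ∈ insert j s, (Pi.single i (u i) : I → F)) =
          Pi.single j (u j) + ∑ i ∈ s, Pi.single i (u i) := Finset.sum_insert hj
      refine ⟨⟨q_single e 1, by rw [h2]; exact (hju.add h).perp⟩, ?_⟩
      rw [rho_congr _ (hju.add h) rfl h2, ← rho_mul hju h]
      exact mul_mem h1 hmem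
  obtain ⟨h, hmem⟩ := key Finset.univ
  rwa [rho_congr hu h rfl (Finset.univ_sum_single u).symm]

theorem omega_eq : Cfsg.Omega F (Cfsg.quadFormPlus 4 F) = roots.gen hf := by
  refine le_antisymm ?_ ?_
  · have hp : HypPair (qPlus (F := F) 4) (Pi.single (.inl 0) 1) (Pi.single (.inr 0) 1) :=
      ⟨q_single _ _, q_single _ _, by simp [polar_single, dual]⟩
    have univ : ∀ c : F, ∃ u ∈ core (qPlus (F := F) 4) (Pi.single (.inl 0) 1) (Pi.single (.inr 0) 1),
        qPlus (F := F) 4 u = c := fun c => by
      refine ⟨Pi.single (.inl 1) 1 + Pi.single (.inr 1) c, mem_core.mpr ⟨?_, ?_⟩, ?_⟩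
      · simp [polar_single, dual]
      · simp [polar_single, dual]
      · simp [qPlus_apply, Fin.sum_univ_four, Pi.single_apply]
    have hQ := qPlus_nondeg (F := F) 4
    have hrad : ∀ x, qPlus (F := F) 4 x = 0 → x ≠ 0 → ∃ y, polar (qPlus (F := F) 4) x y ≠ 0 :=
      fun x _ hx => by
        by_contra hc
        push Not at hc
        exact hx (hQ x hc)
    set iso := isoOrth (qPlus (F := F) 4) (OrthStd.quadFormPlus_eq 4)
    have hH : HasPair ((roots.gen hf).map iso.toMonoidHom) (Pi.single (.inl 0) 1 : I → F)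
        (Pi.single (.inr 0) 1) :=
      ⟨fun u hu => rho_mem_gen (by simp) u hu, fun u hu => rho_mem_gen (by simp) u hu⟩
    have hle : commutator (orth (qPlus (F := F) 4)) ≤ (roots.gen hf).map iso.toMonoidHom :=
      (commutator_le_EG hp univ (closure_reflSet hQ (Or.inr (by
        rw [Module.finrank_fintype_fun_eq_card]; simp)))).trans
        (EG_le_of_hasPair hH hp univ hrad)
    intro g hg
    obtain ⟨h, hh, he⟩ := hle ((mem_commutator_equiv iso g).mp hg)
    exact iso.injective he ▸ hh
  · rw [RootData.gen, Subgroup.closure_le]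
    rintro _ ⟨r, -, t, rfl⟩
    exact elt_mem_omega r t

theorem closure_gens :
    Subgroup.closure {g : GL chevD4.Idx F | ∃ r ∈ roots.gens, ∃ t : F,
      (g : Matrix chevD4.Idx chevD4.Idx F) = chevD4.xMat F r t} = chevD4.group F := by
  refine le_antisymm ((Subgroup.closure_le _).mpr ?_) ?_
  · rintro g ⟨r, -, t, hg⟩
    exact Subgroup.subset_closure ⟨r, t, hg⟩
  · intro g hg
    have C := ChevStructure.Cert.D4.core
    have hp : ∀ i, C.p i ∈ gens ∧ (C.p i).rev ∈ gens := by
      intro i
      have h : ∀ (i : Fin chevD4.rank) (r : ChevStructure.Rt chevD4),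
          chevD4.simple i.val = r.val → r ∈ gens ∧ r.rev ∈ gens := by decide +kernel
      exact h i _ (C.simple_eq i)
    have hgx : ∀ r ∈ gens, ∀ t : F, ChevAut.GX C F r t ∈
        (Subgroup.closure {g : GL chevD4.Idx F | ∃ r ∈ roots.gens, ∃ t : F,
          (g : Matrix chevD4.Idx chevD4.Idx F) = chevD4.xMat F r t}).subgroupOf (chevD4.group F) := by
      intro r hr t
      refine Subgroup.subset_closure ⟨r, hr, t, ?_⟩
      rw [show ((chevD4.group F).subtype (ChevAut.GX C F r t) : Matrix chevD4.Idx chevD4.Idx F) =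
        chevD4.x F r.val t from ChevAut.GX_mat C F r t, ChevalleyDatum.x, dif_pos r.isLt]
    have htop := ChevAut.eq_top C F (fun i t => hgx _ (hp i).1 t) (fun i t => hgx _ (hp i).2 t)
    exact (Subgroup.subgroupOf_eq_top.mp htop) hg

/-- The isomorphism. -/
theorem main : Nonempty (↥(chevD4.group F) ≃* Cfsg.POmega F (Cfsg.quadFormPlus 4 F)) :=
  roots.nonempty_equiv hf ChevStructure.Cert.D4.core
    (p := .inl 0) (p' := .inr 0) (r := .inl 1) (r' := .inr 1)
    (by unfold Cert.TwoPairs; decide +kernel) (by unfold Cert.Adj; decide +kernel)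
    (by unfold Cert.Adj; decide +kernel) (Or.inl fun _ _ _ => rfl)
    (fun r a b => by show (bif rk a == rk b then (1 : ℤ) else 0) = _; rw [rk_eq])
    closure_gens elt_mem_gen omega_eq

end Cfsg.Agent.Lib.ChevClassical.D4
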