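import Cfsg.Agent.Lib.ChevClassical.D4Data

/-!
# The root matrices of type D4 act as the Chevalley root elements
-/

set_option autoImplicit false
set_option maxRecDepth 100000

namespace Cfsg.Agent.Lib.ChevClassical.D4

open Cfsg.Lie Cfsg.Agent.Lib

theorem act : ∀ r ∈ gens, ∀ (j : Fin 5) (s k : chevD4.Idx),
    pair (cert.P s) (Matrix.of fun a b => pair (cert.E k) (Matrix.of fun c d =>
      conv (fun i => N r i a c) (fun i => N r i b d) j)) - ChevStructure.E chevD4 j r s k = 0 := by
  decide +kernel

end Cfsg.Agent.Lib.ChevClassical.D4
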