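import Cfsg.Agent.Lib.ChevClassical.Roots
import Cfsg.Prelude.Def_ChevD4

/-!
# Data: the root system of type D4 in the split eight-dimensional orthogonal group
-/

set_option autoImplicit false
set_option maxRecDepth 100000

namespace Cfsg.Agent.Lib.ChevClassical.D4

open Cfsg.Lie Cfsg.Agent.Lib

/-- Indices of the natural module. -/
abbrev I : Type := Fin 4 ⊕ Fin 4

/-- The form `Σ x_i y_i`. -/
def U : Matrix I I ℤ := Matrix.of fun a b =>
  match a, b with
  | .inl i, .inr j => if i = j then 1 else 0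
  | _, _ => 0

/-- The number of an index. -/
def rk : I → ℕ
  | .inl i => i.val
  | .inr i => 4 + i.val

def eCartan : Fin 4 → List (ℤ × I × I) := ![
    [(1, .inl 0, .inr 0), (-1, .inl 1, .inr 1)],
    [(1, .inl 1, .inr 1), (-1, .inl 2, .inr 2)],
    [(1, .inl 2, .inr 2), (-1, .inl 3, .inr 3)],
    [(1, .inl 2, .inr 2), (1, .inl 3, .inr 3), (-1, .inl 0, .inr 0), (-1, .inr 0, .inl 0)]]

/-- An index from its number. -/
def unrk (n : ℕ) : I :=
  bif Nat.blt n 4 then .inl ⟨n % 4, Nat.mod_lt _ (by decide)⟩ else .inr ⟨n % 4, Nat.mod_lt _ (by decide)⟩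

/-- The first weight of a root, packed. -/
def wt1 (r : ℕ) : ℕ := (2574149280377060 >>> (3 * r)) % 8

/-- The dual of the second weight of a root, packed. -/
def wt2 (r : ℕ) : ℕ := (3430262333448949073425 >>> (3 * r)) % 8

/-- The sign of a root element. -/
def sgn (r : ℕ) : ℤ := bif (755867 >>> r) % 2 == 1 then -1 else 1

def eRoot (r : Fin 24) : List (ℤ × I × I) :=
  [(sgn r.val, unrk (wt1 r.val), unrk ((wt2 r.val + 4) % 8))]

def pCartan : Fin 4 → List (ℤ × I × I) := ![
    [(1, .inl 0, .inr 0), (-1, .inr 0, .inl 0)],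
    [(1, .inl 0, .inr 0), (-1, .inr 0, .inl 0), (1, .inl 1, .inr 1), (-1, .inr 1, .inl 1)],
    [(1, .inl 0, .inr 0), (1, .inl 1, .inr 1), (1, .inl 2, .inr 2), (1, .inr 3, .inl 3)],
    [(-1, .inr 0, .inl 0), (-1, .inr 1, .inl 1), (-1, .inr 2, .inl 2), (-1, .inr 3, .inl 3)]]

def pRoot (r : Fin 24) : List (ℤ × I × I) :=
  [(sgn r.val, unrk (wt1 r.val), unrk ((wt2 r.val + 4) % 8)),
    (-sgn r.val, unrk ((wt2 r.val + 4) % 8), unrk (wt1 r.val))]

def lamCartan : Fin 4 → ℤ := ![0, 0, 1, -1]

def E : chevD4.Idx → List (ℤ × I × I) := fun k => Sum.elim eCartan eRoot k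

def P : chevD4.Idx → List (ℤ × I × I) := fun k => Sum.elim pCartan pRoot k

def lam : chevD4.Idx → ℤ := fun k => Sum.elim lamCartan (fun _ => 0) k

/-- The module certificate. -/
def cert : Cert I chevD4.Idx where
  U := U
  rk := rk
  rk_inj := by decide +kernel
  E := E
  P := P
  lam := lam
  p₀ := .inl 3
  q₀ := .inr 3
  left := by decide +kernel
  diag := by decide +kernel
  symm := by decide +kernel
  ker := by decide +kernel
  redU := by decide +kernel
  redA := by decide +kernel

/-- The coefficient of `t` in a root element. -/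
def n1 (r x y : ℕ) : ℤ :=
  bif x == wt1 r && y == wt2 r then sgn r
  else bif x == (wt2 r + 4) % 8 && y == (wt1 r + 4) % 8 then -sgn r
  else 0

/-- The coefficients of the root elements. -/
def N (r : Fin chevD4.nroots) : ℕ → Matrix I I ℤ
  | 0 => Matrix.of fun a b => bif rk a == rk b then 1 else 0
  | 1 => Matrix.of fun a b => n1 r.val (rk a) (rk b)
  | _ => Matrix.of fun _ _ => 0

/-- The roots whose root elements are compared: the fundamental roots and their negatives. -/
def gens : List (ChevStructure.Rt chevD4) :=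
  [⟨18, by decide⟩, ⟨14, by decide⟩, ⟨13, by decide⟩, ⟨12, by decide⟩,
    ⟨5, by decide⟩, ⟨9, by decide⟩, ⟨10, by decide⟩, ⟨11, by decide⟩]

end Cfsg.Agent.Lib.ChevClassical.D4
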