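import Cfsg.Agent.Lib.ChevClassical.D4Data

/-!
# The root matrices of type D4 are isometries
-/

set_option autoImplicit false
set_option maxRecDepth 100000

namespace Cfsg.Agent.Lib.ChevClassical.D4

open Cfsg.Lie Cfsg.Agent.Lib

theorem iso_diag : ∀ (r : ChevStructure.Rt chevD4) (j : Fin 5) (a : I),
    ∑ x, ∑ y, cert.U x y * conv (fun i => N r i x a) (fun i => N r i y a) j =
      if j.val = 0 then cert.U a a else 0 := by decide +kernel

theorem skew : ∀ (r : ChevStructure.Rt chevD4) (i : Fin 3) (a b : I),
    ∑ x, (N r i x a * (cert.U x b + cert.U b x) -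
      (-1) ^ i.val * (cert.U a x + cert.U x a) * N r i x b) = 0 := by decide +kernel

theorem inv : ∀ (r : ChevStructure.Rt chevD4) (j : Fin 5) (a b : I),
    ∑ x, conv (fun i => N r i a x) (fun i => (-1) ^ i * N r i x b) j =
      if j.val = 0 ∧ a = b then 1 else 0 := by decide +kernel

end Cfsg.Agent.Lib.ChevClassical.D4
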