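import Cfsg.Agent.Lib.ChevClassical.D4Iso
import Cfsg.Agent.Lib.ChevClassical.D4Act

/-!
# The root certificate of type D4
-/

set_option autoImplicit false
set_option maxRecDepth 100000

namespace Cfsg.Agent.Lib.ChevClassical.D4

open Cfsg.Lie

/-- The root certificate. -/
def roots : RootData cert where
  N := N
  iso_diag := iso_diag
  skew := skew
  inv := inv
  gens := gens
  act := act
  cent := by decide +kernel
  path := by decide +kernel

end Cfsg.Agent.Lib.ChevClassical.D4
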