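import Cfsg.Agent.Lib.ChevClassical.Tensor
import Cfsg.Agent.Lib.ChevStructure.Basic
import Cfsg.Prelude.Def_Classical

/-!
# Root elements of a classical group and the Chevalley group of the same type
-/

set_option autoImplicit false

namespace Cfsg.Agent.Lib.ChevClassical

open Matrix Cfsg.Lie Cfsg.Agent.Lib.ChevStructure
open scoped MatrixGroups

variable {ι : Type} [Fintype ι] [DecidableEq ι] {D : ChevalleyDatum}

/-- The convolution of coefficient lists of length three. -/
def conv {R : Type*} [CommRing R] (u v : ℕ → R) : ℕ → R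
  | 0 => u 0 * v 0
  | 1 => u 0 * v 1 + u 1 * v 0
  | 2 => u 0 * v 2 + u 1 * v 1 + u 2 * v 0
  | 3 => u 1 * v 2 + u 2 * v 1
  | 4 => u 2 * v 2
  | _ => 0

theorem conv_mul {R : Type*} [CommRing R] (u v : ℕ → R) (t : R) :
    (∑ i ∈ Finset.range 3, t ^ i * u i) * (∑ i ∈ Finset.range 3, t ^ i * v i) =
      ∑ j ∈ Finset.range 5, t ^ j * conv u v j := by
  simp [conv, Finset.sum_range_succ]
  ring

theorem conv_map {R : Type*} [CommRing R] (u v : ℕ → ℤ) :
    ∀ j, ((conv u v j : ℤ) : R) = conv (fun i => (u i : R)) (fun i => (v i : R)) j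
  | 0 | 1 | 2 | 3 | 4 => by simp [conv]
  | _ + 5 => by simp [conv]

/-- Root elements with their certificates. -/
structure RootData (C : Cert ι D.Idx) where
  /-- coefficient of `t ^ k` in the root element -/
  N : Rt D → ℕ → Matrix ι ι ℤ
  iso_diag : ∀ (r : Rt D) (j : Fin 5) (a : ι),
    ∑ x, ∑ y, C.U x y * conv (fun i => N r i x a) (fun i => N r i y a) j =
      if j.val = 0 then C.U a a else 0
  skew : ∀ (r : Rt D) (i : Fin 3) (a b : ι),
    ∑ x, (N r i x a * (C.U x b + C.U b x) - (-1) ^ i.val * (C.U a x + C.U x a) * N r i x b) = 0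
  inv : ∀ (r : Rt D) (j : Fin 5) (a b : ι),
    ∑ x, conv (fun i => N r i a x) (fun i => (-1) ^ i * N r i x b) j =
      if j.val = 0 ∧ a = b then 1 else 0
  /-- the roots whose action is checked -/
  gens : List (Rt D)
  act : ∀ r ∈ gens, ∀ (j : Fin 5) (s k : D.Idx),
    pair (C.P s) (Matrix.of fun a b => pair (C.E k) (Matrix.of fun c d =>
      conv (fun i => N r i a c) (fun i => N r i b d) j)) - ChevStructure.E D j r s k = 0
  cent : ∀ x a : ι, x ≠ a → ∃ r z, (∀ b, N r 1 x b = 0) ∧ (∀ b, b ≠ a → N r 1 b z = 0) ∧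
    N r 1 a z * N r 1 a z = 1
  path : ∀ a c : ι, ∃ b r r', (N r 1 a b * N r 1 a b = 1 ∨ N r 1 b a * N r 1 b a = 1) ∧
    (N r' 1 b c * N r' 1 b c = 1 ∨ N r' 1 c b * N r' 1 c b = 1)

variable {C : Cert ι D.Idx} (Y : RootData C)

/-- The matrix of a root element. -/
def RootData.mat (R : Type*) [CommRing R] (r : Rt D) (t : R) : Matrix ι ι R :=
  Matrix.of fun a b => ∑ i ∈ Finset.range 3, t ^ i * (Y.N r i a b : R)

theorem RootData.mat_inv (R : Type*) [CommRing R] (r : Rt D) (t : R) :
    Y.mat R r t * Y.mat R r (-t) = 1 := by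
  ext a b
  have h : ∀ x, (Y.mat R r (-t)) x b =
      ∑ i ∈ Finset.range 3, t ^ i * (((-1) ^ i * Y.N r i x b : ℤ) : R) := fun x => by
    simp only [RootData.mat, Matrix.of_apply]
    exact Finset.sum_congr rfl fun i _ => by rw [neg_pow]; push_cast; ring
  rw [Matrix.mul_apply]
  simp only [h]
  simp only [RootData.mat, Matrix.of_apply, conv_mul, ← conv_map]
  rw [Finset.sum_comm]
  simp only [← Finset.mul_sum, ← Int.cast_sum]
  have h5 : ∀ j ∈ Finset.range 5, t ^ j *
      (((∑ x, conv (fun i => Y.N r i a x) (fun i => (-1) ^ i * Y.N r i x b) j : ℤ)) : R) =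
      if j = 0 then (1 : Matrix ι ι R) a b else 0 := fun j hj => by
    rw [Y.inv r ⟨j, Finset.mem_range.mp hj⟩ a b]
    rcases eq_or_ne j 0 with rfl | hj0
    · simp [Matrix.one_apply]
    · simp [hj0]
  rw [Finset.sum_congr rfl h5, Finset.sum_ite_eq']
  simp

theorem RootData.mat_iso (R : Type*) [CommRing R] (r : Rt D) (t : R) : C.Iso (Y.mat R r t) := by
  intro v
  rw [← qval_conj]
  have hent : ∀ a b, ((Y.mat R r t)ᵀ * C.Um R * Y.mat R r t) a b =
      ∑ j ∈ Finset.range 5, t ^ j *
        (((∑ x, ∑ y, C.U x y * conv (fun i => Y.N r i x a) (fun i => Y.N r i y b) j : ℤ)) : R) := by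
    intro a b
    simp only [Matrix.mul_apply, Matrix.transpose_apply, Cert.Um, Matrix.map_apply, eq_intCast,
      Finset.sum_mul, Int.cast_sum, Int.cast_mul, conv_map, Finset.mul_sum]
    rw [Finset.sum_comm]
    conv_rhs => rw [Finset.sum_comm]
    refine Finset.sum_congr rfl fun x _ => ?_
    conv_rhs => rw [Finset.sum_comm]
    refine Finset.sum_congr rfl fun y _ => ?_
    calc _ = (C.U x y : R) * (Y.mat R r t x a * Y.mat R r t y b) := by ring
      _ = _ := by
        simp only [RootData.mat, Matrix.of_apply]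
        rw [conv_mul, Finset.mul_sum]
        exact Finset.sum_congr rfl fun j _ => by ring
  obtain ⟨B, hB⟩ := eq_form_add (M := (Y.mat R r t)ᵀ * C.Um R * Y.mat R r t) (l := 1)
    (C.Um R) C.rk C.rk_inj (fun a => by
      rw [hent, one_mul]
      have h5 : ∀ j ∈ Finset.range 5, t ^ j *
          (((∑ x, ∑ y, C.U x y * conv (fun i => Y.N r i x a) (fun i => Y.N r i y a) j : ℤ)) : R) =
          if j = 0 then C.Um R a a else 0 := fun j hj => by
        rw [Y.iso_diag r ⟨j, Finset.mem_range.mp hj⟩ a]
        rcases eq_or_ne j 0 with rfl | hj0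
        · simp [Cert.Um]
        · simp [hj0]
      rw [Finset.sum_congr rfl h5, Finset.sum_ite_eq']
      simp) fun a b => by
      have hJ : (Y.mat R r t)ᵀ * C.J R * Y.mat R r t = C.J R := by
        have hs : (Y.mat R r t)ᵀ * C.J R = C.J R * Y.mat R r (-t) := by
          ext a b
          simp only [Matrix.mul_apply, RootData.mat, Matrix.transpose_apply, Matrix.of_apply,
            Cert.J, Cert.Um, Matrix.add_apply, Matrix.map_apply, eq_intCast, Finset.sum_mul,
            Finset.mul_sum]
          rw [Finset.sum_comm]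
          conv_rhs => rw [Finset.sum_comm]
          refine Finset.sum_congr rfl fun i hi => ?_
          have h := congrArg (Int.cast : ℤ → R) (Y.skew r ⟨i, Finset.mem_range.mp hi⟩ a b)
          push_cast at h
          rw [Finset.sum_sub_distrib, sub_eq_zero] at h
          have h2 := congrArg (t ^ i * ·) h
          simp only [Finset.mul_sum] at h2
          refine Eq.trans (Eq.trans (Finset.sum_congr rfl fun x _ => ?_) h2)
            (Finset.sum_congr rfl fun x _ => ?_)
          · ring
          · rw [neg_pow]; ring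
        have hinv : Y.mat R r (-t) * Y.mat R r t = 1 := by simpa using Y.mat_inv R r (-t)
        rw [hs, Matrix.mul_assoc, hinv, Matrix.mul_one]
      rw [one_mul]
      have h := congrFun (congrFun hJ a) b
      rw [Cert.J, Matrix.mul_add, Matrix.add_mul] at h
      rw [show (Y.mat R r t)ᵀ * (C.Um R)ᵀ * Y.mat R r t =
        ((Y.mat R r t)ᵀ * C.Um R * Y.mat R r t)ᵀ by
          simp only [Matrix.transpose_mul, Matrix.transpose_transpose, Matrix.mul_assoc]] at h
      simp only [Matrix.add_apply, Matrix.transpose_apply] at h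
      exact h
  rw [hB, qval, Matrix.add_mulVec, dotProduct_add]
  show qval ((1 : R) • C.Um R) v + qval (B - Bᵀ) v = _
  rw [one_smul, qval_alt, add_zero]

theorem RootData.psi_mat (core : Core D) (R : Type*) [CommRing R] (r : Rt D) (hr : r ∈ Y.gens)
    (t : R) :
    C.psi (Y.mat R r t) = xI D R r t := by
  ext s k
  have h : (Matrix.of fun a b => pair (C.E k)
      (Matrix.of fun c d => Y.mat R r t a c * Y.mat R r t b d)) =
      ∑ j ∈ Finset.range 5, t ^ j • (Matrix.of fun a b => pair (C.E k) (Matrix.of fun c d =>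
        conv (fun i => Y.N r i a c) (fun i => Y.N r i b d) j)).map (Int.castRingHom R) := by
    ext a b
    have h2 : (Matrix.of fun c d => Y.mat R r t a c * Y.mat R r t b d) =
        ∑ j ∈ Finset.range 5, t ^ j • (Matrix.of fun c d =>
          conv (fun i => Y.N r i a c) (fun i => Y.N r i b d) j).map (Int.castRingHom R) := by
      ext c d
      simp [RootData.mat, Matrix.sum_apply, conv_mul, conv_map]
    simp only [Matrix.of_apply, h2, pair_sum, pair_smul, pair_map, Matrix.sum_apply,
      Matrix.smul_apply, Matrix.map_apply, smul_eq_mul]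
  rw [Cert.psi, Matrix.of_apply, h, pair_sum]
  simp only [pair_smul, pair_map, xI, Matrix.sum_apply, Matrix.smul_apply, smul_eq_mul, Ek,
    Matrix.map_apply]
  rw [Finset.sum_range_succ (n := 4)]
  have h4 := sub_eq_zero.mp (Y.act r hr ⟨4, by norm_num⟩ s k)
  simp only [core.E_big 4 r le_rfl, Matrix.zero_apply] at h4
  rw [h4, map_zero, mul_zero, add_zero]
  refine Finset.sum_congr rfl fun j hj => ?_
  rw [sub_eq_zero.mp (Y.act r hr ⟨j, by have := Finset.mem_range.mp hj; omega⟩ s k)]

/-- A root element as a unit. -/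
def RootData.gl (R : Type*) [CommRing R] (r : Rt D) (t : R) : GL ι R where
  val := Y.mat R r t
  inv := Y.mat R r (-t)
  val_inv := Y.mat_inv R r t
  inv_val := by simpa using Y.mat_inv R r (-t)

variable {F : Type*} [Field F] {f : (ι → F) → F} (hf : ∀ v, f v = qval (C.Um F) v)

include hf in
theorem iso_of_mem (g : Cfsg.isometryGroup F f) : C.Iso g.1.1 := fun v => by
  rw [← hf, ← hf]; exact g.2 v v

/-- A root element in the isometry group. -/
def RootData.elt (r : Rt D) (t : F) : Cfsg.isometryGroup F f :=
  ⟨Y.gl F r t, fun u _ => by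
    show f (Y.mat F r t *ᵥ u) = f u
    rw [hf, hf]; exact Y.mat_iso F r t u⟩

/-- The representation on the module. -/
def psiHom : Cfsg.isometryGroup F f →* GL D.Idx F :=
  MonoidHom.toHomUnits
    { toFun := fun g => C.psi g.1.1
      map_one' := C.psi_one
      map_mul' := fun g h => (C.psi_mul (iso_of_mem hf g) (iso_of_mem hf h)).symm }

theorem psiHom_val (g : Cfsg.isometryGroup F f) : (psiHom hf g).1 = C.psi g.1.1 := rfl

/-- The group generated by the root elements. -/
def RootData.gen : Subgroup (Cfsg.isometryGroup F f) :=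
  Subgroup.closure {g | ∃ r ∈ Y.gens, ∃ t : F, g = Y.elt hf r t}

theorem RootData.elt_mem_gen {r : Rt D} (hr : r ∈ Y.gens) (t : F) : Y.elt hf r t ∈ Y.gen hf :=
  Subgroup.subset_closure ⟨r, hr, t, rfl⟩

theorem RootData.map_gen (core : Core D)
    (hD : Subgroup.closure {g : GL D.Idx F | ∃ r ∈ Y.gens, ∃ t : F,
      (g : Matrix D.Idx D.Idx F) = D.xMat F r t} = D.group F) :
    (Y.gen hf).map (psiHom hf) = D.group F := by
  have hval : ∀ (r : Rt D), r ∈ Y.gens → ∀ t : F,
      (psiHom hf (Y.elt hf r t)).1 = D.xMat F r t := fun r hr t => by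
    rw [psiHom_val]
    show C.psi (Y.mat F r t) = _
    rw [Y.psi_mat core F r hr, ← core.xI_eq_x, ChevalleyDatum.x, dif_pos r.isLt]
  rw [RootData.gen, MonoidHom.map_closure, ← hD]
  congr 1
  ext g
  constructor
  · rintro ⟨_, ⟨r, hr, t, rfl⟩, rfl⟩
    exact ⟨r, hr, t, hval r hr t⟩
  · rintro ⟨r, hr, t, hg⟩
    exact ⟨_, ⟨r, hr, t, rfl⟩, Units.ext ((hval r hr t).trans hg.symm)⟩

/-- The comparison with the Chevalley group. -/
theorem RootData.nonempty_equiv (core : Core D) {p p' r r' : ι} (hp : C.TwoPairs p p' r r')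
    (hadj : ∀ a k, k ≠ a → ∃ b, C.Adj a b ∧ k ≠ b) (hpath : ∀ a c, ∃ b, C.Adj a b ∧ C.Adj b c)
    (hN : (∀ r a b, Y.N r 2 a b = 0) ∨ ∃ l : F, l ≠ 0 ∧ l ≠ 1)
    (hN0 : ∀ r a b, Y.N r 0 a b = if a = b then 1 else 0)
    (hD : Subgroup.closure {g : GL D.Idx F | ∃ r ∈ Y.gens, ∃ t : F,
      (g : Matrix D.Idx D.Idx F) = D.xMat F r t} = D.group F)
    (hall : ∀ r t, Y.elt hf r t ∈ Y.gen hf)
    (hΩ : Cfsg.Omega F f = Y.gen hf) :
    Nonempty (↥(D.group F) ≃* Cfsg.POmega F f) := by
  let θ : Cfsg.Omega F f →* GL D.Idx F := (psiHom hf).comp (Cfsg.Omega F f).subtype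
  have hrange : θ.range = D.group F := by
    rw [MonoidHom.range_comp, Subgroup.range_subtype, hΩ, Y.map_gen hf core hD]
  have hk : θ.ker = Subgroup.center (Cfsg.Omega F f) := by
    ext g
    constructor
    · intro hg
      have h1 : C.psi g.1.1.1 = 1 := by
        have h := congrArg Units.val (MonoidHom.mem_ker.mp hg)
        simpa [θ, psiHom_val] using h
      obtain ⟨d, -, hd⟩ := C.scalar_of_psi hp hadj hpath (iso_of_mem hf g.1) h1
      rw [Subgroup.mem_center_iff]
      intro h
      apply Subtype.ext; apply Subtype.ext; apply Units.ext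
      show h.1.1.1 * g.1.1.1 = g.1.1.1 * h.1.1.1
      rw [hd]
      simp
    · intro hg
      have hcomm : ∀ r t, g.1.1.1 * Y.mat F r t = Y.mat F r t * g.1.1.1 := fun r t => by
        have hm : Y.elt hf r t ∈ Cfsg.Omega F f := hΩ ▸ hall r t
        have h := Subgroup.mem_center_iff.mp hg ⟨_, hm⟩
        exact (congrArg (fun x : Cfsg.Omega F f => x.1.1.1) h).symm
      set G := g.1.1.1 with hG
      have hN1 : ∀ r a b, ∑ x, G a x * (Y.N r 1 x b : F) = ∑ x, (Y.N r 1 a x : F) * G x b := by
        intro r a b
        have e : ∀ t : F, t * ((∑ x, G a x * (Y.N r 1 x b : F)) - ∑ x, (Y.N r 1 a x : F) * G x b) +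
            t ^ 2 * ((∑ x, G a x * (Y.N r 2 x b : F)) - ∑ x, (Y.N r 2 a x : F) * G x b) = 0 := by
          intro t
          have h := congrFun (congrFun (hcomm r t) a) b
          simp only [Matrix.mul_apply, RootData.mat, Matrix.of_apply, Finset.sum_range_succ,
            Finset.sum_range_zero, zero_add, hN0, pow_zero, one_mul, pow_one, mul_add, add_mul,
            Finset.sum_add_distrib] at h
          simp only [Int.cast_ite, Int.cast_one, Int.cast_zero, mul_ite, mul_one, mul_zero, ite_mul,
            one_mul, zero_mul, Finset.sum_ite_eq, Finset.sum_ite_eq', Finset.mem_univ, if_true] at h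
          simp only [mul_sub, Finset.mul_sum]
          have h' := h
          rw [Finset.sum_congr rfl (fun x _ => show G a x * (t * (Y.N r 1 x b : F)) =
              t * (G a x * (Y.N r 1 x b : F)) by ring),
            Finset.sum_congr rfl (fun x _ => show G a x * (t ^ 2 * (Y.N r 2 x b : F)) =
              t ^ 2 * (G a x * (Y.N r 2 x b : F)) by ring),
            Finset.sum_congr rfl (fun x _ => show t * (Y.N r 1 a x : F) * G x b =
              t * ((Y.N r 1 a x : F) * G x b) by ring),
            Finset.sum_congr rfl (fun x _ => show t ^ 2 * (Y.N r 2 a x : F) * G x b =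
              t ^ 2 * ((Y.N r 2 a x : F) * G x b) by ring)] at h'
          linear_combination h'
        rcases hN with hN2 | ⟨l, hl0, hl1⟩
        · have h := e 1
          simp [hN2] at h
          linear_combination h
        · have h1 := e 1
          have h2 := e l
          have h3 : (l - l ^ 2) * ((∑ x, G a x * (Y.N r 1 x b : F)) -
              ∑ x, (Y.N r 1 a x : F) * G x b) = 0 := by linear_combination h2 - l ^ 2 * h1
          rcases mul_eq_zero.mp h3 with h4 | h4
          · exfalso
            have : l * (1 - l) = 0 := by linear_combination h4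
            rcases mul_eq_zero.mp this with h5 | h5
            · exact hl0 h5
            · exact hl1 (sub_eq_zero.mp h5).symm
          · exact sub_eq_zero.mp h4
      have hoff : ∀ x a, x ≠ a → G x a = 0 := by
        intro x a hxa
        obtain ⟨r, z, h1, h2, h3⟩ := Y.cent x a hxa
        have h := hN1 r x z
        rw [Finset.sum_eq_single a (fun b _ hb => by rw [h2 b hb]; simp) (by simp),
          Finset.sum_eq_zero (fun b _ => by rw [h1 b]; simp)] at h
        have h3' : (Y.N r 1 a z : F) * (Y.N r 1 a z : F) = 1 := by rw [← Int.cast_mul, h3, Int.cast_one]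
        linear_combination (Y.N r 1 a z : F) * h - G x a * h3'
      have hedge : ∀ a b r, Y.N r 1 a b * Y.N r 1 a b = 1 → G a a = G b b := by
        intro a b r hr
        have h := hN1 r a b
        rw [Finset.sum_eq_single a (fun x _ hx => by rw [hoff a x (Ne.symm hx), zero_mul]) (by simp),
          Finset.sum_eq_single b (fun x _ hx => by rw [hoff x b hx, mul_zero]) (by simp)] at h
        have h3' : (Y.N r 1 a b : F) * (Y.N r 1 a b : F) = 1 := by rw [← Int.cast_mul, hr, Int.cast_one]
        linear_combination (Y.N r 1 a b : F) * h - (G a a - G b b) * h3'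
      have hdiag : ∀ a, G a a = G p p := by
        intro a
        obtain ⟨b, r, r', h, h'⟩ := Y.path a p
        have e1 : G a a = G b b := h.elim (hedge a b r) fun h => (hedge b a r h).symm
        have e2 : G b b = G p p := h'.elim (hedge b p r') fun h => (hedge p b r' h).symm
        exact e1.trans e2
      have hd : G = G p p • 1 := by
        ext a b
        rcases eq_or_ne a b with rfl | hab
        · simpa using hdiag a
        · simp [Matrix.one_apply_ne hab, hoff a b hab]
      have hd2 : G p p * G p p = 1 := by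
        have h := congrFun (congrFun (C.J_conj (iso_of_mem hf g.1)) p) p'
        rw [← hG, hd, C.J_apply] at h
        simp [C.J_apply, hp.1] at h
        linear_combination h
      refine MonoidHom.mem_ker.mpr (Units.ext ?_)
      show C.psi G = (1 : Matrix D.Idx D.Idx F)
      rw [← C.psi_one (R := F), hd]
      ext s k
      simp only [Cert.psi, Matrix.of_apply]
      congr 1
      ext a b
      simp only [Matrix.of_apply]
      congr 1
      ext c d
      simp only [Matrix.of_apply, Matrix.smul_apply, smul_eq_mul]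
      linear_combination ((1 : Matrix ι ι F) a c * (1 : Matrix ι ι F) b d) * hd2
  exact ⟨((MulEquiv.subgroupCongr hrange).symm.trans (QuotientGroup.quotientKerEquivRange θ).symm).trans
    (QuotientGroup.quotientMulEquivOfEq hk)⟩

end Cfsg.Agent.Lib.ChevClassical
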