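import Mathlib

/-!
# A module of tensors for an orthogonal group

From integer data (`Cert`) attached to an integral quadratic form `U`, every ring gets a
homomorphism `Cert.psi` from the isometries of the form to matrices on an index set `κ`, and over a
field an isometry in its kernel is a scalar matrix.
-/

set_option autoImplicit false

namespace Cfsg.Agent.Lib.ChevClassical

open Matrix

variable {ι κ : Type} {R S : Type*} [CommRing R] [CommRing S]

/-- The value at `x` of a formal combination of matrix entries. -/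
def pair (l : List (ℤ × ι × ι)) (x : Matrix ι ι R) : R :=
  (l.map fun p => (p.1 : R) * x p.2.1 p.2.2).sum

theorem pair_nil (x : Matrix ι ι R) : pair [] x = 0 := rfl

theorem pair_cons (p : ℤ × ι × ι) (l : List (ℤ × ι × ι)) (x : Matrix ι ι R) :
    pair (p :: l) x = (p.1 : R) * x p.2.1 p.2.2 + pair l x := by simp [pair]

theorem pair_add (l : List (ℤ × ι × ι)) (x y : Matrix ι ι R) :
    pair l (x + y) = pair l x + pair l y := by
  induction l with
  | nil => simp [pair_nil]
  | cons p l ih => rw [pair_cons, pair_cons, pair_cons, ih, Matrix.add_apply]; ring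

theorem pair_smul (l : List (ℤ × ι × ι)) (c : R) (x : Matrix ι ι R) :
    pair l (c • x) = c * pair l x := by
  induction l with
  | nil => simp [pair_nil]
  | cons p l ih => rw [pair_cons, pair_cons, ih, Matrix.smul_apply, smul_eq_mul]; ring

theorem pair_zero (l : List (ℤ × ι × ι)) : pair l (0 : Matrix ι ι R) = 0 := by
  induction l with
  | nil => rfl
  | cons p l ih => rw [pair_cons, ih]; simp

theorem pair_sum {α : Type*} (s : Finset α) (l : List (ℤ × ι × ι)) (x : α → Matrix ι ι R) :
    pair l (∑ i ∈ s, x i) = ∑ i ∈ s, pair l (x i) := by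
  classical
  induction s using Finset.induction_on with
  | empty => simp [pair_zero]
  | insert i s hi ih => rw [Finset.sum_insert hi, Finset.sum_insert hi, pair_add, ih]

theorem pair_map (f : R →+* S) (l : List (ℤ × ι × ι)) (x : Matrix ι ι R) :
    pair l (x.map f) = f (pair l x) := by
  induction l with
  | nil => simp [pair_nil]
  | cons p l ih => rw [pair_cons, pair_cons, ih, map_add, map_mul, map_intCast, Matrix.map_apply]

variable [Fintype ι] [DecidableEq ι]

theorem pair_eq_sum (l : List (ℤ × ι × ι)) (x : Matrix ι ι R) :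
    pair l x = ∑ a, ∑ b, pair l (Matrix.single a b 1) * x a b := by
  conv_lhs => rw [matrix_eq_sum_single x]
  rw [pair_sum]
  refine Finset.sum_congr rfl fun a _ => ?_
  rw [pair_sum]
  refine Finset.sum_congr rfl fun b _ => ?_
  rw [show Matrix.single a b (x a b) = x a b • Matrix.single a b (1 : R) by simp, pair_smul,
    mul_comm]

/-- Quadratic value of a matrix. -/
def qval (M : Matrix ι ι R) (v : ι → R) : R := v ⬝ᵥ (M *ᵥ v)

theorem qval_conj (M g : Matrix ι ι R) (v : ι → R) :
    qval (gᵀ * M * g) v = qval M (g *ᵥ v) := by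
  rw [qval, qval, ← Matrix.mulVec_mulVec, ← Matrix.mulVec_mulVec, Matrix.dotProduct_mulVec,
    Matrix.vecMul_transpose]

theorem qval_alt (B : Matrix ι ι R) (v : ι → R) : qval (B - Bᵀ) v = 0 := by
  rw [qval, Matrix.sub_mulVec, dotProduct_sub, Matrix.mulVec_transpose, dotProduct_comm v (v ᵥ* B),
    ← Matrix.dotProduct_mulVec, sub_self]

/-- The integer data. -/
structure Cert (ι κ : Type) [Fintype ι] [DecidableEq ι] [Fintype κ] [DecidableEq κ] where
  /-- the quadratic form -/
  U : Matrix ι ι ℤ
  /-- an enumeration, to choose upper parts -/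
  rk : ι → ℕ
  rk_inj : Function.Injective rk
  /-- coordinates of the module -/
  E : κ → List (ℤ × ι × ι)
  /-- the section -/
  P : κ → List (ℤ × ι × ι)
  /-- the multiplier of each member of the section -/
  lam : κ → ℤ
  /-- the entry measuring the kernel -/
  p₀ : ι
  q₀ : ι
  left : ∀ s k, pair (P s) (Matrix.of fun a b => pair (E k) (Matrix.single a b (1 : ℤ))) =
    if s = k then 1 else 0
  diag : ∀ s a, pair (P s) (Matrix.single a a (1 : ℤ)) = lam s * U a a
  symm : ∀ s a b, pair (P s) (Matrix.single a b (1 : ℤ)) + pair (P s) (Matrix.single b a 1) =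
    lam s * (U a b + U b a)
  ker : ∀ k, pair (E k) (U + Uᵀ) = 0
  redU : ∀ a b, ∑ s, pair (P s) (Matrix.single a b (1 : ℤ)) * pair (E s) U +
    U p₀ q₀ * (U a b + U b a) - U a b = 0
  redA : ∀ i j a b, ∑ s, pair (P s) (Matrix.single a b (1 : ℤ)) *
      pair (E s) (Matrix.single i j (1 : ℤ) - Matrix.single j i 1) +
    ((Matrix.single i j (1 : ℤ) - Matrix.single j i 1 : Matrix ι ι ℤ)) p₀ q₀ * (U a b + U b a) -
    ((Matrix.single i j (1 : ℤ) - Matrix.single j i 1 : Matrix ι ι ℤ)) a b = 0

variable [Fintype κ] [DecidableEq κ] (C : Cert ι κ)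

/-- The form over a ring. -/
def Cert.Um (R : Type*) [CommRing R] : Matrix ι ι R := C.U.map (Int.castRingHom R)

/-- The polar form over a ring. -/
def Cert.J (R : Type*) [CommRing R] : Matrix ι ι R := C.Um R + (C.Um R)ᵀ

/-- An isometry. -/
def Cert.Iso (g : Matrix ι ι R) : Prop := ∀ v, qval (C.Um R) (g *ᵥ v) = qval (C.Um R) v

/-- Matrices whose quadratic form is a multiple of the form. -/
def Cert.InX (M : Matrix ι ι R) : Prop := ∃ l : R, ∀ v, qval M v = l * qval (C.Um R) v

/-- The section as a matrix. -/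
def Cert.sec (w : κ → R) : Matrix ι ι R :=
  Matrix.of fun a b => ∑ s, pair (C.P s) (Matrix.single a b (1 : R)) * w s

/-- The action on the module. -/
def Cert.psi (g : Matrix ι ι R) : Matrix κ κ R :=
  Matrix.of fun s k => pair (C.P s) (Matrix.of fun a b =>
    pair (C.E k) (Matrix.of fun c d => g a c * g b d))

theorem pair_single_cast (l : List (ℤ × ι × ι)) (a b : ι) :
    pair l (Matrix.single a b (1 : R)) = ((pair l (Matrix.single a b (1 : ℤ)) : ℤ) : R) := by
  rw [← eq_intCast (Int.castRingHom R), ← pair_map]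
  congr 1
  ext c d
  simp only [Matrix.map_apply, Matrix.single_apply]
  split_ifs <;> simp

theorem eq_form_add {M : Matrix ι ι R} {l : R} (U' : Matrix ι ι R) (rk : ι → ℕ)
    (hrk : Function.Injective rk) (hd : ∀ a, M a a = l * U' a a)
    (hs : ∀ a b, M a b + M b a = l * (U' a b + U' b a)) :
    ∃ B : Matrix ι ι R, M = l • U' + (B - Bᵀ) := by
  refine ⟨Matrix.of fun a b => if rk a < rk b then M a b - l * U' a b else 0, ?_⟩
  ext a b
  simp only [Matrix.add_apply, Matrix.sub_apply, Matrix.smul_apply, Matrix.transpose_apply,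
    Matrix.of_apply, smul_eq_mul]
  rcases lt_trichotomy (rk a) (rk b) with h | h | h
  · rw [if_pos h, if_neg (by omega)]; ring
  · obtain rfl := hrk h
    rw [hd]; simp
  · rw [if_neg (by omega), if_pos h]
    linear_combination hs a b

theorem Cert.inX_form (M : Matrix ι ι R) (l : R) (B : Matrix ι ι R)
    (h : M = l • C.Um R + (B - Bᵀ)) : C.InX M := by
  refine ⟨l, fun v => ?_⟩
  subst h
  rw [qval, Matrix.add_mulVec, dotProduct_add, Matrix.smul_mulVec, dotProduct_smul]
  show l • qval _ v + qval (B - Bᵀ) v = _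
  rw [qval_alt, add_zero, smul_eq_mul]

omit [Fintype κ] [DecidableEq κ] in
theorem qval_single (M : Matrix ι ι R) (a : ι) : qval M (Pi.single a 1) = M a a := by
  simp [qval, Matrix.mulVec_single_one, single_dotProduct]

omit [Fintype κ] [DecidableEq κ] in
theorem qval_pair (M : Matrix ι ι R) (a b : ι) :
    qval M (Pi.single a 1 + Pi.single b 1) = M a a + M a b + M b a + M b b := by
  simp [qval, Matrix.mulVec_add, Matrix.mulVec_single_one, single_dotProduct]
  ring

theorem Cert.InX.form {C : Cert ι κ} {M : Matrix ι ι R} (h : C.InX M) :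
    ∃ (l : R) (B : Matrix ι ι R), M = l • C.Um R + (B - Bᵀ) := by
  obtain ⟨l, hl⟩ := h
  refine ⟨l, eq_form_add _ C.rk C.rk_inj (fun a => ?_) fun a b => ?_⟩
  · simpa [qval_single] using hl (Pi.single a 1)
  · have h1 := hl (Pi.single a 1 + Pi.single b 1)
    have h2 := hl (Pi.single a 1)
    have h3 := hl (Pi.single b 1)
    rw [qval_pair, qval_pair] at h1
    rw [qval_single, qval_single] at h2 h3
    linear_combination h1 - h2 - h3

theorem Cert.InX.conj {C : Cert ι κ} {M g : Matrix ι ι R} (hg : C.Iso g) (h : C.InX M) :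
    C.InX (gᵀ * M * g) := by
  obtain ⟨l, hl⟩ := h
  exact ⟨l, fun v => by rw [qval_conj, hl, hg]⟩

theorem Cert.sec_inX (w : κ → R) : C.InX (C.sec w) := by
  obtain ⟨B, hB⟩ := eq_form_add (M := C.sec w) (l := ∑ s, (C.lam s : R) * w s) (C.Um R) C.rk
    C.rk_inj (fun a => by
      simp only [Cert.sec, Matrix.of_apply, Cert.Um, Matrix.map_apply, eq_intCast, pair_single_cast (R := R),
        C.diag, Int.cast_mul, Finset.sum_mul]
      exact Finset.sum_congr rfl fun s _ => by ring) fun a b => by
      simp only [Cert.sec, Matrix.of_apply, Cert.Um, Matrix.map_apply, eq_intCast, pair_single_cast (R := R),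
        ← Finset.sum_add_distrib, Finset.sum_mul]
      refine Finset.sum_congr rfl fun s _ => ?_
      rw [← add_mul, ← Int.cast_add, C.symm]
      push_cast
      ring
  exact C.inX_form _ _ B hB

theorem Cert.J_conj {g : Matrix ι ι R} (hg : C.Iso g) : gᵀ * C.J R * g = C.J R := by
  have hU : C.InX (gᵀ * C.Um R * g) := Cert.InX.conj hg ⟨1, fun v => (one_mul _).symm⟩
  have h : ∀ a b, (gᵀ * C.Um R * g) a b + (gᵀ * C.Um R * g) b a = C.J R a b := by
    intro a b
    have key : ∀ v, qval (gᵀ * C.Um R * g) v = qval (C.Um R) v := fun v => by rw [qval_conj, hg]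
    have h1 := key (Pi.single a 1 + Pi.single b 1)
    have h2 := key (Pi.single a 1)
    have h3 := key (Pi.single b 1)
    rw [qval_pair, qval_pair] at h1
    rw [qval_single, qval_single] at h2 h3
    simp only [Cert.J, Matrix.add_apply, Matrix.transpose_apply]
    linear_combination h1 - h2 - h3
  have e : gᵀ * C.J R * g = gᵀ * C.Um R * g + (gᵀ * C.Um R * g)ᵀ := by
    simp only [Cert.J, Matrix.mul_add, Matrix.add_mul, Matrix.transpose_mul,
      Matrix.transpose_transpose, Matrix.mul_assoc]
  rw [e]
  ext a b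
  exact h a b

theorem Cert.pair_J (k : κ) : pair (C.E k) (C.J R) = 0 := by
  have h : C.J R = (C.U + C.Uᵀ).map (Int.castRingHom R) := by
    ext a b; simp [Cert.J, Cert.Um]
  rw [h, pair_map, C.ker, map_zero]

/-- Reduction modulo the polar form. -/
theorem Cert.reduce {M : Matrix ι ι R} (hM : C.InX M) :
    C.sec (fun k => pair (C.E k) M) + M C.p₀ C.q₀ • C.J R = M := by
  obtain ⟨l, B, rfl⟩ := hM.form
  let T : Matrix ι ι R →ₗ[R] Matrix ι ι R :=
    { toFun := fun M => C.sec (fun k => pair (C.E k) M) + M C.p₀ C.q₀ • C.J R - M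
      map_add' := fun x y => by
        ext a b
        simp only [Cert.sec, pair_add, Matrix.add_apply, Matrix.sub_apply, Matrix.of_apply,
          Matrix.smul_apply, smul_eq_mul, mul_add, Finset.sum_add_distrib]
        ring
      map_smul' := fun c x => by
        ext a b
        simp only [Cert.sec, pair_smul, Matrix.add_apply, Matrix.sub_apply, Matrix.of_apply,
          Matrix.smul_apply, smul_eq_mul, RingHom.id_apply, mul_add, mul_sub, Finset.mul_sum]
        congr 1
        · congr 1
          · exact Finset.sum_congr rfl fun s _ => by ring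
          · ring }
  have hcast : ∀ Z : Matrix ι ι ℤ, (∀ a b, ∑ s, pair (C.P s) (Matrix.single a b (1 : ℤ)) *
      pair (C.E s) Z + Z C.p₀ C.q₀ * (C.U a b + C.U b a) - Z a b = 0) →
      T (Z.map (Int.castRingHom R)) = 0 := by
    intro Z hZ
    ext a b
    have := congrArg (Int.castRingHom R) (hZ a b)
    simp only [map_add, map_sub, map_zero, map_mul, map_sum, eq_intCast] at this
    simp only [T, LinearMap.coe_mk, AddHom.coe_mk, Cert.sec, Matrix.add_apply, Matrix.sub_apply,
      Matrix.of_apply, Matrix.smul_apply, smul_eq_mul, Cert.J, Cert.Um, Matrix.transpose_apply,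
      Matrix.map_apply, pair_map, pair_single_cast (R := R), eq_intCast, Matrix.zero_apply]
    linear_combination this
  have hU : T (C.Um R) = 0 := hcast _ C.redU
  have hA : ∀ i j, T (Matrix.single i j (1 : R) - Matrix.single j i 1) = 0 := fun i j => by
    have h := hcast _ (C.redA i j)
    rwa [Matrix.map_sub _ (map_sub _), Matrix.map_single _ _ _ (Int.castRingHom R),
      Matrix.map_single _ _ _ (Int.castRingHom R), map_one] at h
  suffices T (l • C.Um R + (B - Bᵀ)) = 0 from sub_eq_zero.mp this
  have hB : B - Bᵀ = ∑ i, ∑ j, B i j • (Matrix.single i j (1 : R) - Matrix.single j i 1) := by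
    conv_lhs => rw [matrix_eq_sum_single B]
    simp only [Matrix.transpose_sum, Matrix.transpose_single, ← Finset.sum_sub_distrib, smul_sub,
      Matrix.smul_single, smul_eq_mul, mul_one]
  rw [map_add, map_smul, hU, smul_zero, zero_add, hB, map_sum]
  refine Finset.sum_eq_zero fun i _ => ?_
  rw [map_sum]
  exact Finset.sum_eq_zero fun j _ => by rw [map_smul, hA, smul_zero]

theorem Cert.psi_transpose_mulVec (g : Matrix ι ι R) (w : κ → R) :
    (C.psi g)ᵀ *ᵥ w = fun k => pair (C.E k) (gᵀ * C.sec w * g) := by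
  funext k
  have h : gᵀ * C.sec w * g =
      ∑ a, ∑ b, C.sec w a b • (Matrix.of fun c d => g a c * g b d) := by
    ext c d
    simp only [Matrix.mul_apply, Matrix.transpose_apply, Matrix.sum_apply, Matrix.smul_apply,
      Matrix.of_apply, smul_eq_mul, Finset.sum_mul]
    rw [Finset.sum_comm]
    exact Finset.sum_congr rfl fun a _ => Finset.sum_congr rfl fun b _ => by ring
  rw [h, pair_sum]
  simp only [pair_sum, pair_smul, Cert.sec, Matrix.of_apply, Finset.sum_mul, Matrix.mulVec,
    dotProduct, Matrix.transpose_apply, Cert.psi]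
  rw [Finset.sum_congr rfl fun s _ => congrArg (· * w s) (pair_eq_sum (C.P s) _)]
  simp only [Matrix.of_apply, Finset.sum_mul]
  rw [Finset.sum_comm]
  refine Finset.sum_congr rfl fun a _ => ?_
  rw [Finset.sum_comm]
  refine Finset.sum_congr rfl fun b _ => Finset.sum_congr rfl fun s _ => ?_
  ring

theorem Cert.psi_one : C.psi (1 : Matrix ι ι R) = 1 := by
  ext s k
  have h : (Matrix.of fun a b => pair (C.E k)
      (Matrix.of fun c d => (1 : Matrix ι ι R) a c * (1 : Matrix ι ι R) b d)) =
      (Matrix.of fun a b => pair (C.E k) (Matrix.single a b (1 : ℤ))).map (Int.castRingHom R) := by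
    ext a b
    rw [Matrix.of_apply, Matrix.map_apply, Matrix.of_apply, ← pair_map]
    congr 1
    ext c d
    simp only [Matrix.map_apply, Matrix.of_apply, Matrix.one_apply, Matrix.single_apply]
    split_ifs <;> simp_all
  simp only [Cert.psi, Matrix.of_apply, h, pair_map, C.left]
  rw [Matrix.one_apply]
  split_ifs <;> simp

theorem Cert.psi_mul {g h : Matrix ι ι R} (hg : C.Iso g) (hh : C.Iso h) :
    C.psi g * C.psi h = C.psi (g * h) := by
  apply Matrix.transpose_injective
  rw [Matrix.transpose_mul]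
  refine Matrix.ext_of_mulVec_single fun i => ?_
  rw [← Matrix.mulVec_mulVec]
  simp only [C.psi_transpose_mulVec]
  funext k
  have hX : C.InX (gᵀ * C.sec (Pi.single i 1) * g) := Cert.InX.conj hg (C.sec_inX _)
  have hred := C.reduce hX
  rw [Matrix.transpose_mul]
  have e : hᵀ * gᵀ * C.sec (Pi.single i 1) * (g * h) =
      hᵀ * (gᵀ * C.sec (Pi.single i 1) * g) * h := by simp only [Matrix.mul_assoc]
  rw [e]
  conv_rhs => rw [← hred]
  rw [Matrix.mul_add, Matrix.add_mul, Matrix.mul_smul, Matrix.smul_mul, C.J_conj hh, pair_add,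
    pair_smul, C.pair_J, mul_zero, add_zero]

section Field

variable {F : Type*} [Field F]

/-- Two indices whose basis vectors are orthogonal. -/
def Cert.Adj (a b : ι) : Prop := a ≠ b ∧ C.U a b + C.U b a = 0

/-- Two hyperbolic pairs of indices. -/
def Cert.TwoPairs (p p' r r' : ι) : Prop :=
  C.U p p' + C.U p' p = 1 ∧ C.U r r' + C.U r' r = 1 ∧ C.U p r + C.U r p = 0 ∧
    C.U p' r' + C.U r' p' = 0 ∧ C.U p r' + C.U r' p = 0 ∧ C.U p' r + C.U r p' = 0 ∧
    p ≠ p' ∧ p ≠ r ∧ p ≠ r' ∧ p' ≠ r ∧ p' ≠ r' ∧ r ≠ r'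

theorem Cert.J_apply (a b : ι) : C.J F a b = ((C.U a b + C.U b a : ℤ) : F) := by
  simp [Cert.J, Cert.Um]

theorem Cert.wedge_fixed {p p' r r' : ι} (hp : C.TwoPairs p p' r r') {g : Matrix ι ι F}
    (hg : C.Iso g) (h1 : C.psi g = 1) {a b : ι} (hab : C.Adj a b) (x y : ι) :
    g a x * g b y - g b x * g a y =
      ((Matrix.single a b (1 : F) - Matrix.single b a 1 : Matrix ι ι F)) x y := by
  set A : Matrix ι ι F := Matrix.single a b (1 : F) - Matrix.single b a 1 with hA
  have hAX : C.InX A := C.inX_form A 0 (Matrix.single a b 1) (by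
    rw [zero_smul, zero_add, Matrix.transpose_single])
  have hM : ∃ c : F, gᵀ * A * g = A + c • C.J F := by
    have hred := C.reduce hAX
    set w : κ → F := fun k => pair (C.E k) A
    have hX : C.InX (gᵀ * A * g) := Cert.InX.conj hg hAX
    have hred2 := C.reduce hX
    have hw : (fun k => pair (C.E k) (gᵀ * A * g)) = w := by
      funext k
      have h3 := congrFun (C.psi_transpose_mulVec g w) k
      rw [h1, Matrix.transpose_one, Matrix.one_mulVec] at h3
      conv_lhs => rw [← hred]
      rw [Matrix.mul_add, Matrix.add_mul, Matrix.mul_smul, Matrix.smul_mul, C.J_conj hg, pair_add,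
        pair_smul, C.pair_J, mul_zero, add_zero]
      exact h3.symm
    rw [hw] at hred2
    refine ⟨(gᵀ * A * g) C.p₀ C.q₀ - A C.p₀ C.q₀, ?_⟩
    linear_combination (norm := module) hred - hred2
  obtain ⟨c, hc⟩ := hM
  have hwe : ∀ x y, g a x * g b y - g b x * g a y = A x y + c * C.J F x y := fun x y => by
    have h := congrFun (congrFun hc x) y
    rw [Matrix.add_apply, Matrix.smul_apply, smul_eq_mul] at h
    rw [← h, hA]
    simp [Matrix.mul_apply, Matrix.single_apply, ite_and, sub_mul, mul_sub, Finset.sum_sub_distrib]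
  suffices c = 0 by rw [hwe, this, zero_mul, add_zero]
  obtain ⟨j1, j2, j3, j4, j5, j6, n1, n2, n3, n4, n5, n6⟩ := hp
  obtain ⟨hne, hj⟩ := hab
  have e1 := hwe p p'
  have e2 := hwe r r'
  have e3 := hwe p r
  have e4 := hwe p' r'
  have e5 := hwe p r'
  have e6 := hwe p' r
  simp only [C.J_apply, j1, j2, j3, j4, j5, j6, Int.cast_one, Int.cast_zero, mul_one, mul_zero,
    add_zero] at e1 e2 e3 e4 e5 e6
  have nz : ∀ u v, C.U u v + C.U v u = 1 → A u v = 0 := fun u v huv => by
    have h1 : ¬(a = u ∧ b = v) := fun h => by rw [h.1, h.2] at hj; omega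
    have h2 : ¬(b = u ∧ a = v) := fun h => by rw [h.1, h.2] at hj; omega
    simp [hA, Matrix.single_apply, h1, h2]
  have z1 : A p p' = 0 := nz _ _ j1
  have z2 : A r r' = 0 := nz _ _ j2
  have z3 : A p r * A p' r' = 0 := by
    simp only [hA, Matrix.sub_apply, Matrix.single_apply]
    split_ifs <;> simp_all
  have z4 : A p r' * A p' r = 0 := by
    simp only [hA, Matrix.sub_apply, Matrix.single_apply]
    split_ifs <;> simp_all
  rw [z1, zero_add] at e1
  rw [z2, zero_add] at e2
  have hcc : c * c = 0 := by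
    have hpl : (g a p * g b p' - g b p * g a p') * (g a r * g b r' - g b r * g a r') -
        (g a p * g b r - g b p * g a r) * (g a p' * g b r' - g b p' * g a r') +
        (g a p * g b r' - g b p * g a r') * (g a p' * g b r - g b p' * g a r) = 0 := by ring
    rw [e1, e2, e3, e4, e5, e6, z3, z4] at hpl
    linear_combination hpl
  exact mul_self_eq_zero.mp hcc

/-- An isometry in the kernel is scalar, with square one. -/
theorem Cert.scalar_of_psi {p p' r r' : ι} (hp : C.TwoPairs p p' r r')
    (hadj : ∀ a k, k ≠ a → ∃ b, C.Adj a b ∧ k ≠ b) (hpath : ∀ a c, ∃ b, C.Adj a b ∧ C.Adj b c)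
    {g : Matrix ι ι F} (hg : C.Iso g) (h1 : C.psi g = 1) :
    ∃ d : F, d * d = 1 ∧ g = d • 1 := by
  have hoff : ∀ a k, k ≠ a → g a k = 0 := by
    intro a k hk
    obtain ⟨b, hab, hkb⟩ := hadj a k hk
    have w1 := C.wedge_fixed hp hg h1 hab a b
    have w2 := C.wedge_fixed hp hg h1 hab k b
    have w3 := C.wedge_fixed hp hg h1 hab k a
    simp [Matrix.single_apply, hab.1, hab.1.symm, hk, hk.symm, hkb, hkb.symm] at w1 w2 w3
    linear_combination -(g a k) * w1 + g a a * w2 - g a b * w3
  have hd : ∀ a b, C.Adj a b → g a a * g b b = 1 := by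
    intro a b hab
    have w1 := C.wedge_fixed hp hg h1 hab a b
    rw [hoff a b hab.1.symm] at w1
    simpa [Matrix.single_apply, hab.1, hab.1.symm] using w1
  refine ⟨g p p, ?_, ?_⟩
  · obtain ⟨b, h, -⟩ := hadj p p' hp.2.2.2.2.2.2.1.symm
    obtain ⟨k, h2, h3⟩ := hpath b p
    have e1 := hd p b h
    have e2 := hd b k h2
    have e3 := hd k p h3
    linear_combination (g p p * g p p) * (1 - e2) + (g b b * g p p) * e3 + e1 - (g b b * g p p) * 0
  · ext a b
    rcases eq_or_ne a b with rfl | hne
    · rw [Matrix.smul_apply, Matrix.one_apply_eq, smul_eq_mul, mul_one]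
      obtain ⟨b, h, h'⟩ := hpath a p
      have e1 := hd a b h
      have e2 := hd b p h'
      linear_combination g p p * e1 - g a a * e2
    · simp [Matrix.one_apply_ne hne, hoff a b hne.symm]

end Field

end Cfsg.Agent.Lib.ChevClassical
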